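import Cfsg.Agent.ClassCountU.Unitary
import Cfsg.Agent.ClassCount.Count

set_option autoImplicit false
set_option linter.style.haveILetI false

/-!
Bounds for the number of conjugacy classes of `SU(n,q)`.
-/

namespace CfsgLib.ClassCountU

open Polynomial Matrix CfsgLib.InvNorm CfsgLib.SemisimpleSU
open CfsgLib.ClassCount (Item IsItem size δ detD dataSet part Decomp dataOf)

variable {K : Type*} [Field K] [Fintype K] {q n : ℕ} {σ : K →+* K}

/-- `SU` inside `GL`. -/
noncomputable def toGLU : Cfsg.SU n K q →* GL (Fin n) K :=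
  Matrix.SpecialLinearGroup.toGL.comp (Cfsg.SU n K q).subtype

theorem toGLU_mem (g : Cfsg.SU n K q) : toGLU g ∈ Cfsg.GU n K q := g.2

theorem toGLU_injective : Function.Injective (toGLU (n := n) (K := K) (q := q)) :=
  Matrix.SpecialLinearGroup.toGL_injective.comp (Subgroup.subtype_injective _)

/-- `SU` inside `GU`. -/
noncomputable def toGU : Cfsg.SU n K q →* Cfsg.GU n K q := toGLU.codRestrict _ toGLU_mem

/-- Determinants in the centraliser of `x` in `GU`. -/
noncomputable def detCent (x : Cfsg.GU n K q) : Subgroup Kˣ :=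
  (Subgroup.centralizer {x}).map (Matrix.GeneralLinearGroup.det.comp (Cfsg.GU n K q).subtype)

/-- The gcd of `q + 1` and all exponents. -/
noncomputable def sU (q : ℕ) (D : Multiset (Item K)) : ℕ := Nat.gcd (q + 1) (D.map Prod.snd).gcd

omit [Fintype K] in
theorem dvd_sU (D : Multiset (Item K)) (t : ℕ) : t ∣ sU q D ↔ t ∣ q + 1 ∧ ∀ it ∈ D, t ∣ it.2 := by
  rw [sU, Nat.dvd_gcd_iff, ClassCount.dvd_gcd_exps]

omit [Fintype K] in
theorem sU_pos (D : Multiset (Item K)) : 0 < sU q D := Nat.gcd_pos_of_pos_left _ (by omega)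

theorem det_normOne (hσ : ∀ x, σ x = x ^ q) (hσσ : ∀ x, σ (σ x) = x) (P : Cfsg.GU n K q) :
    σ (P : GL (Fin n) K).1.det * (P : GL (Fin n) K).1.det = 1 := by
  have h := congrArg Matrix.det ((mem_GU_iff hσ hσσ _).1 P.2)
  rw [Matrix.det_mul, Matrix.det_one, tau, Matrix.det_transpose] at h
  rw [RingHom.map_det]
  exact h

/-- Norm-one units. -/
def normOne (σ : K →+* K) : Subgroup Kˣ where
  carrier := {u | σ (u : K) * u = 1}
  one_mem' := by simp
  mul_mem' {a b} ha hb := by
    show σ ((a * b : Kˣ) : K) * _ = 1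
    rw [Units.val_mul, map_mul, mul_mul_mul_comm, ha, hb, one_mul]
  inv_mem' {a} ha := by
    show σ ((a⁻¹ : Kˣ) : K) * _ = 1
    rw [Units.val_inv_eq_inv_val, map_inv₀, ← mul_inv, ha, inv_one]

theorem exists_index_bound (hK : Fintype.card K = q ^ 2) (hσ : ∀ x, σ x = x ^ q) (hσσ : ∀ x, σ (σ x) = x)
    (x : Cfsg.GU n K q) :
    ((detCent x).subgroupOf (normOne σ)).index ≤ sU q (dataOf (x : GL (Fin n) K)) := by
  classical
  set H := (detCent x).subgroupOf (normOne σ)
  obtain ⟨γ, hγ⟩ := IsCyclic.exists_generator (α := Kˣ)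
  have hq := two_le_of_card hK
  have hord : orderOf γ = (q + 1) * (q - 1) := by
    rw [orderOf_eq_card_of_forall_mem_zpowers hγ, Nat.card_units, Nat.card_eq_fintype_card, hK,
      ← Nat.sq_sub_sq, one_pow]
  have hmem : γ ^ (q - 1) ∈ normOne σ := by
    show σ _ * _ = 1
    rw [hσ, ← pow_succ, ← Units.val_pow_eq_pow_val, ← pow_mul, mul_comm, ← hord, pow_orderOf_eq_one, Units.val_one]
  set g : normOne σ := ⟨_, hmem⟩
  have htop : ∀ z : normOne σ, z ∈ Subgroup.zpowers g := by
    intro z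
    obtain ⟨i, hi⟩ := mem_powers_iff_mem_zpowers.2 (hγ (z : Kˣ))
    have hi' : γ ^ i = (z : Kˣ) := hi
    have h1 : γ ^ (i * (q + 1)) = 1 := by
      rw [pow_mul, hi']
      apply Units.ext
      rw [Units.val_pow_eq_pow_val, Units.val_one, pow_succ, ← hσ]
      exact z.2
    have hdiv := orderOf_dvd_of_pow_eq_one h1
    rw [hord, mul_comm i] at hdiv
    obtain ⟨j, hj⟩ := (Nat.mul_dvd_mul_iff_left (by omega)).1 hdiv
    refine Subgroup.mem_zpowers_iff.2 ⟨j, Subtype.ext ?_⟩
    rw [zpow_natCast, SubgroupClass.coe_pow, ← pow_mul, ← hj]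
    exact hi'
  have hdvd : orderOf (QuotientGroup.mk g : normOne σ ⧸ H) ∣ sU q (dataOf (x : GL (Fin n) K)) := by
    rw [dvd_sU]
    constructor
    · apply orderOf_dvd_of_pow_eq_one
      rw [← QuotientGroup.mk_pow, QuotientGroup.eq_one_iff]
      have : g ^ (q + 1) = 1 := Subtype.ext (by
        rw [SubgroupClass.coe_pow, OneMemClass.coe_one, ← pow_mul, mul_comm, ← hord, pow_orderOf_eq_one])
      rw [this]
      exact one_mem _
    · rintro ⟨P, e⟩ hit
      apply orderOf_dvd_of_pow_eq_one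
      rw [← QuotientGroup.mk_pow, QuotientGroup.eq_one_iff, ← inv_mem_iff]
      obtain ⟨U, hUc, hUd⟩ := exists_centralizer_det hK hσ hσσ x hit γ
      show ((g ^ e)⁻¹ : normOne σ) ∈ H
      rw [Subgroup.mem_subgroupOf]
      refine Subgroup.mem_map.2 ⟨U, Subgroup.mem_centralizer_iff.2 fun y hy => by
        rw [Set.mem_singleton_iff.1 hy]; exact hUc.symm, ?_⟩
      apply Units.ext
      show (U : GL (Fin n) K).1.det = ((((γ ^ (q - 1)) ^ e : Kˣ)⁻¹ : Kˣ) : K)
      rw [Units.val_inv_eq_inv_val, Units.val_pow_eq_pow_val, Units.val_pow_eq_pow_val]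
      refine eq_inv_of_mul_eq_one_left ?_
      rw [hσ, ← pow_mul] at hUd
      have h0 : (γ : K) ^ e ≠ 0 := pow_ne_zero _ γ.ne_zero
      refine mul_right_cancel₀ h0 ?_
      rw [one_mul, mul_assoc, ← pow_mul, ← pow_add]
      have harith : (q - 1) * e + e = e * q := by
        obtain ⟨q, rfl⟩ : ∃ q', q = q' + 1 := ⟨q - 1, by omega⟩
        simp; ring
      rw [harith]
      exact hUd
  have htop' : ∀ z : normOne σ ⧸ H, z ∈ Subgroup.zpowers (QuotientGroup.mk g : normOne σ ⧸ H) := by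
    intro z
    induction z using QuotientGroup.induction_on with
    | H u =>
      obtain ⟨k, rfl⟩ := Subgroup.mem_zpowers_iff.1 (htop u)
      exact ⟨k, rfl⟩
  rw [Subgroup.index_eq_card, ← orderOf_eq_card_of_forall_mem_zpowers htop']
  exact Nat.le_of_dvd (sU_pos _) hdvd

/-- The data of a class of `SU(n,q)`. -/
noncomputable def suData (c : ConjClasses (Cfsg.SU n K q)) : Multiset (Item K) :=
  dataOf (toGLU (Quotient.out c))

theorem suData_mem (hσ : ∀ x, σ x = x ^ q) (hσσ : ∀ x, σ (σ x) = x) (c : ConjClasses (Cfsg.SU n K q)) :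
    suData c ∈ uDetSet σ n 1 :=
  ⟨dataOf_mem hσ hσσ (toGU (Quotient.out c)), (dataOf_det _).trans (Quotient.out c).1.prop⟩

theorem card_fibre_le (hK : Fintype.card K = q ^ 2) (hσ : ∀ x, σ x = x ^ q) (hσσ : ∀ x, σ (σ x) = x)
    (D : Multiset (Item K)) :
    Nat.card {c : ConjClasses (Cfsg.SU n K q) // suData c = D} ≤ sU q D := by
  classical
  by_cases hne : Nonempty {c : ConjClasses (Cfsg.SU n K q) // suData c = D}
  swap
  · haveI := not_nonempty_iff.1 hne
    simp
  obtain ⟨c0, hc0⟩ := hne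
  set x : Cfsg.GU n K q := toGU (Quotient.out c0) with hx
  have hex : ∀ c : {c : ConjClasses (Cfsg.SU n K q) // suData c = D},
      ∃ h : Cfsg.GU n K q, h * x * h⁻¹ = toGU (Quotient.out c.1) := fun c =>
    isConj_iff.1 ((Cfsg.Agent.S2587.result hK _ _).2 (isConj_GL_of_dataOf (hc0.trans c.2.symm)))
  choose h hh using hex
  have hle := exists_index_bound hK hσ hσσ x
  rw [show dataOf (x : GL (Fin n) K) = D from hc0, Subgroup.index_eq_card] at hle
  refine le_trans (Nat.card_le_card_of_injective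
    (fun c => (QuotientGroup.mk (⟨Matrix.GeneralLinearGroup.det ((h c : Cfsg.GU n K q) : GL (Fin n) K),
      det_normOne hσ hσσ (h c)⟩ : normOne σ) : normOne σ ⧸ (detCent x).subgroupOf (normOne σ))) ?_) hle
  intro c c' e
  obtain ⟨k, hk, hkd⟩ := Subgroup.mem_map.1 (Subgroup.mem_subgroupOf.1 (QuotientGroup.eq.1 e))
  have hkx : k * x = x * k := (Subgroup.mem_centralizer_iff.1 hk x rfl).symm
  set W := h c' * (h c * k)⁻¹ with hW
  have hdet : Matrix.GeneralLinearGroup.det (W : GL (Fin n) K) = 1 := by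
    rw [hW, Subgroup.coe_mul, Subgroup.coe_inv, Subgroup.coe_mul, map_mul, map_inv, map_mul,
      show Matrix.GeneralLinearGroup.det (k : GL (Fin n) K) = _ from hkd]
    simp only [Subgroup.coe_mul, InvMemClass.coe_inv]
    group
  have hconj : W * toGU (Quotient.out c.1) * W⁻¹ = toGU (Quotient.out c'.1) := by
    have e2 : h c * k * x * (h c * k)⁻¹ = toGU (Quotient.out c.1) := by
      rw [mul_assoc (h c) k x, hkx, ← hh c]
      group
    rw [← e2, ← hh c', hW]
    group
  apply Subtype.ext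
  rw [← show ConjClasses.mk (Quotient.out c.1) = c.1 from Quotient.out_eq c.1,
    ← show ConjClasses.mk (Quotient.out c'.1) = c'.1 from Quotient.out_eq c'.1, ConjClasses.mk_eq_mk_iff_isConj]
  let W' : Cfsg.SU n K q := ⟨⟨((W : GL (Fin n) K) : Matrix (Fin n) (Fin n) K), congrArg Units.val hdet⟩, W.2⟩
  have hW' : toGU W' = W := Subtype.ext (Units.ext rfl)
  refine isConj_iff.2 ⟨W', toGLU_injective ?_⟩
  show ((toGU (W' * Quotient.out c.1 * W'⁻¹) : Cfsg.GU n K q) : GL (Fin n) K) = _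
  rw [map_mul, map_mul, map_inv, hW', hconj]
  rfl

theorem card_classes_le (hK : Fintype.card K = q ^ 2) :
    Nat.card (ConjClasses (Cfsg.SU n K q)) ≤ classBound q n := by
  classical
  obtain ⟨σ, hσ, hσσ⟩ := CfsgLib.FieldEmb.exists_conj hK
  haveI : Fintype (uDetSet σ n 1) := Fintype.ofFinite _
  let f : ConjClasses (Cfsg.SU n K q) → uDetSet σ n 1 := fun c => ⟨suData c, suData_mem hσ hσσ c⟩
  have hfib : ∀ D : uDetSet σ n 1, Nat.card {c // f c = D} ≤ sU q D.1 := fun D => by
    refine le_trans (le_of_eq (Nat.card_congr (Equiv.subtypeEquivRight fun c => ?_))) (card_fibre_le hK hσ hσσ D.1)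
    exact Subtype.ext_iff
  have h1 : Nat.card (ConjClasses (Cfsg.SU n K q)) ≤ ∑ D : uDetSet σ n 1, sU q D.1 := by
    rw [← Nat.card_congr (Equiv.sigmaFiberEquiv f), Nat.card_sigma]
    exact Finset.sum_le_sum fun D _ => hfib D
  refine h1.trans ?_
  have hs : ∀ D : uDetSet σ n 1, sU q D.1 =
      ∑ t ∈ (Nat.gcd n (q + 1)).divisors, if (∀ it ∈ D.1, t ∣ it.2) then t.totient else 0 := by
    intro D
    rw [← Finset.sum_filter]
    conv_lhs => rw [← Nat.sum_totient (sU q D.1)]
    refine Finset.sum_congr ?_ fun _ _ => rfl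
    ext t
    simp only [Finset.mem_filter, Nat.mem_divisors]
    constructor
    · rintro ⟨ht, -⟩
      obtain ⟨h1, h2⟩ := (dvd_sU _ _).1 ht
      refine ⟨⟨Nat.dvd_gcd ?_ h1, (Nat.gcd_pos_of_pos_right _ (by omega)).ne'⟩, h2⟩
      rw [← D.2.1.1.2]
      exact ClassCount.dvd_size_of_dvd h2
    · rintro ⟨⟨h1, -⟩, h2⟩
      exact ⟨(dvd_sU _ _).2 ⟨h1.trans (Nat.gcd_dvd_right _ _), h2⟩, (sU_pos _).ne'⟩
  rw [Finset.sum_congr rfl fun D _ => hs D, Finset.sum_comm, classBound]
  refine Finset.sum_le_sum fun t ht => ?_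
  rw [← Finset.sum_filter, Finset.sum_const, smul_eq_mul, mul_comm]
  refine Nat.mul_le_mul_left _ (le_trans (le_of_eq ?_) (card_uDvdSet_le hK hσ n (Nat.pos_of_mem_divisors ht)))
  rw [← Nat.card_eq_finsetCard]
  exact Nat.card_congr
    { toFun := fun D => ⟨D.1.1, D.1.2, (Finset.mem_filter.1 D.2).2⟩
      invFun := fun D => ⟨⟨D.1, D.2.1⟩, Finset.mem_filter.2 ⟨Finset.mem_univ _, D.2.2⟩⟩
      left_inv := fun _ => rfl
      right_inv := fun _ => rfl }

theorem card_fixed (hK : Fintype.card K = q ^ 2) :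
    ∃ m : Fin q → K, Function.Injective m ∧ ∀ i, m i ^ q = m i := by
  classical
  have hq := two_le_of_card hK
  obtain ⟨γ, hγ⟩ := IsCyclic.exists_generator (α := Kˣ)
  have hord : orderOf γ = (q + 1) * (q - 1) := by
    rw [orderOf_eq_card_of_forall_mem_zpowers hγ, Nat.card_units, Nat.card_eq_fintype_card, hK,
      ← Nat.sq_sub_sq, one_pow]
  obtain ⟨r, rfl⟩ : ∃ r, q = r + 1 := ⟨q - 1, by omega⟩
  simp only [Nat.add_sub_cancel] at hord
  refine ⟨Fin.cons 0 fun i : Fin r => ((γ ^ ((r + 1 + 1) * i.1) : Kˣ) : K), ?_, ?_⟩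
  · refine Fin.cons_injective_iff.2 ⟨?_, fun i j hij => ?_⟩
    · rintro ⟨i, hi⟩
      exact Units.ne_zero _ hi
    · have h2 := pow_inj_mod.1 (Units.ext hij)
      rw [hord, Nat.mul_mod_mul_left, Nat.mul_mod_mul_left, Nat.mod_eq_of_lt i.2, Nat.mod_eq_of_lt j.2] at h2
      exact Fin.ext (Nat.eq_of_mul_eq_mul_left (by omega) h2)
  · intro i
    induction i using Fin.cases with
    | zero => simp
    | succ i =>
      rw [Fin.cons_succ, pow_succ]
      have : ((γ ^ ((r + 1 + 1) * i.1) : Kˣ) : K) ^ r = 1 := by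
        rw [← Units.val_pow_eq_pow_val, ← pow_mul, show (r + 1 + 1) * i.1 * r = (r + 1 + 1) * r * i.1 by ring,
          pow_mul, ← hord, pow_orderOf_eq_one, one_pow, Units.val_one]
      rw [this, one_mul]

/-- A self-dual monic polynomial of degree `n` with constant `(-1)^n` and prescribed free coefficients. -/
theorem exists_selfDual (hK : Fintype.card K = q ^ 2) (hσ : ∀ x, σ x = x ^ q) (hσσ : ∀ x, σ (σ x) = x)
    (hn : 1 ≤ n) (a : Fin n → K) (ha0 : a ⟨0, hn⟩ = (-1) ^ n)
    (ha : ∀ i j : Fin n, i.1 + j.1 = n → a j = (-1) ^ n * σ (a i)) :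
    SemisimpleSU.star σ (ClassCount.monicOf a) = ClassCount.monicOf a := by
  have hdeg := ClassCount.monicOf_natDegree a
  have h0 : (ClassCount.monicOf a).coeff 0 = (-1) ^ n := by rw [← ha0, ← ClassCount.monicOf_coeff a ⟨0, hn⟩]
  have hsg : σ ((-1 : K) ^ n) = (-1) ^ n := by rw [map_pow, map_neg, map_one]
  have hsg2 : ((-1 : K) ^ n) * (-1) ^ n = 1 := by rw [← mul_pow, neg_mul_neg, one_mul, one_pow]
  have hc0 : (ClassCount.monicOf a).coeff 0 ≠ 0 := by rw [h0]; exact pow_ne_zero _ (neg_ne_zero.2 one_ne_zero)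
  refine Polynomial.ext fun k => ?_
  rcases le_or_gt k n with hk | hk
  swap
  · rw [coeff_eq_zero_of_natDegree_lt (by rw [natDegree_star hc0, hdeg]; exact hk),
      coeff_eq_zero_of_natDegree_lt (by rw [hdeg]; exact hk)]
  rw [SemisimpleSU.star, coeff_C_mul, coeff_reverse, natDegree_map, hdeg, revAt_le hk, coeff_map, h0, hsg]
  have hlead : (ClassCount.monicOf a).coeff n = 1 := by
    have := (ClassCount.monicOf_monic a).coeff_natDegree
    rwa [hdeg] at this
  have hinv : ((-1 : K) ^ n)⁻¹ = (-1) ^ n := inv_eq_of_mul_eq_one_right hsg2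
  rw [hinv]
  rcases Nat.eq_zero_or_pos k with rfl | hk0
  · rw [Nat.sub_zero, hlead, map_one, mul_one, h0]
  rcases eq_or_lt_of_le hk with rfl | hkn
  · rw [Nat.sub_self, h0, hsg, hsg2, hlead]
  · rw [ClassCount.monicOf_coeff a ⟨k, hkn⟩, ClassCount.monicOf_coeff a ⟨n - k, by omega⟩,
      ha ⟨n - k, by omega⟩ ⟨k, hkn⟩ (Nat.sub_add_cancel hk)]

theorem card_lower (hK : Fintype.card K = q ^ 2) (hn : 1 ≤ n) :
    q ^ (n - 1) ≤ Nat.card (ConjClasses (Cfsg.SU n K q)) := by
  classical
  obtain ⟨σ, hσ, hσσ⟩ := CfsgLib.FieldEmb.exists_conj hK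
  obtain ⟨p, hp⟩ := CharP.exists K
  obtain ⟨_, hpp, -⟩ := FiniteField.card K p
  haveI := Fact.mk hpp
  have hreal : ∀ a : Fin n → K, a ⟨0, hn⟩ = (-1) ^ n →
      (∀ i j : Fin n, i.1 + j.1 = n → a j = (-1) ^ n * σ (a i)) →
      ∃ g : Cfsg.SU n K q, g.1.1.charpoly = ClassCount.monicOf a := by
    intro a ha0 ha
    have hc0 : (ClassCount.monicOf a).coeff 0 ≠ 0 := by
      rw [ClassCount.monicOf_coeff a ⟨0, hn⟩, ha0]
      exact pow_ne_zero _ (neg_ne_zero.2 one_ne_zero)
    obtain ⟨B, -, hB⟩ := exists_GU_charpoly (p := p) hK hσ (ClassCount.monicOf_monic a) hc0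
      (exists_selfDual hK hσ hσσ hn a ha0 ha) (ClassCount.monicOf_natDegree a)
    have hdet : (B : GL (Fin n) K).1.det = 1 := by
      rw [ClassCount.det_eq_of_charpoly _ hB, ClassCount.monicOf_coeff a ⟨0, hn⟩, ha0, ← mul_pow, neg_mul_neg,
        one_mul, one_pow]
    exact ⟨⟨⟨(B : GL (Fin n) K).1, hdet⟩, B.2⟩, hB⟩
  -- free coefficients: below the middle arbitrary, the middle one fixed by σ
  obtain ⟨fx, hfx, hfx'⟩ := card_fixed hK
  let h := (n - 1) / 2
  let M : Type := if Even n then Fin q else Unit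
  haveI : Finite M := by simp only [M]; split_ifs <;> infer_instance
  let mid : M → K := if hev : Even n then fun m => fx (cast (if_pos hev) m) else fun _ => 0
  let coef : (Fin h → K) × M → Fin n → K := fun z i =>
    if h0 : i.1 = 0 then (-1) ^ n
    else if h1 : i.1 - 1 < h then z.1 ⟨i.1 - 1, h1⟩
    else if 2 * i.1 = n then mid z.2
    else if h2 : n - i.1 - 1 < h then (-1) ^ n * σ (z.1 ⟨n - i.1 - 1, h2⟩) else 0
  have hc0 : ∀ z, coef z ⟨0, hn⟩ = (-1) ^ n := fun z => dif_pos rfl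
  have hsg2 : ((-1 : K) ^ n) * (-1) ^ n = 1 := by rw [← mul_pow, neg_mul_neg, one_mul, one_pow]
  have hsg : σ ((-1 : K) ^ n) = (-1) ^ n := by rw [map_pow, map_neg, map_one]
  have hc : ∀ z, ∀ i j : Fin n, i.1 + j.1 = n → coef z j = (-1) ^ n * σ (coef z i) := by
    intro z i j hij
    have hi := i.2
    have hj := j.2
    simp only [coef]
    rw [dif_neg (show ¬ j.1 = 0 by omega), dif_neg (show ¬ i.1 = 0 by omega)]
    rcases lt_trichotomy (2 * j.1) n with hlt | heq | hgt
    · rw [dif_pos (show j.1 - 1 < h by omega), dif_neg (show ¬ i.1 - 1 < h by omega), if_neg (show ¬ 2 * i.1 = n by omega),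
        dif_pos (show n - i.1 - 1 < h by omega), map_mul, hsg, hσσ, ← mul_assoc, hsg2, one_mul]
      exact congrArg z.1 (Fin.ext (by simp only; omega))
    · rw [dif_neg (show ¬ j.1 - 1 < h by omega), if_pos heq, dif_neg (show ¬ i.1 - 1 < h by omega),
        if_pos (show 2 * i.1 = n by omega)]
      have hev : Even n := ⟨j.1, by omega⟩
      simp only [mid, dif_pos hev]
      rw [hσ, hfx', hev.neg_one_pow, one_mul]
    · rw [dif_neg (show ¬ j.1 - 1 < h by omega), if_neg (show ¬ 2 * j.1 = n by omega),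
        dif_pos (show n - j.1 - 1 < h by omega), dif_pos (show i.1 - 1 < h by omega)]
      congr 2
      exact congrArg z.1 (Fin.ext (by simp only; omega))
  choose g hg using fun z => hreal (coef z) (hc0 z) (hc z)
  have hinj : Function.Injective fun z => ConjClasses.mk (g z) := by
    intro z z' e
    have h1 := ClassCount.charpoly_eq_of_isConj (toGLU.map_isConj (ConjClasses.mk_eq_mk_iff_isConj.1 e))
    change (g z).1.1.charpoly = (g z').1.1.charpoly at h1
    rw [hg, hg] at h1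
    have h2 := ClassCount.monicOf_injective h1
    refine Prod.ext (funext fun j => ?_) ?_
    · have hj := j.2
      have h3 := congrFun h2 ⟨j.1 + 1, by omega⟩
      simp only [coef] at h3
      rw [dif_neg (show ¬ j.1 + 1 = 0 by omega), dif_pos (show j.1 + 1 - 1 < h by omega),
        dif_neg (show ¬ j.1 + 1 = 0 by omega), dif_pos (show j.1 + 1 - 1 < h by omega)] at h3
      simpa using h3
    · by_cases hev : Even n
      · obtain ⟨k, hk⟩ := hev
        have h3 := congrFun h2 ⟨k, by omega⟩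
        simp only [coef] at h3
        rw [dif_neg (show ¬ k = 0 by omega), dif_neg (show ¬ k - 1 < h by omega), if_pos (show 2 * k = n by omega),
          dif_neg (show ¬ k = 0 by omega), dif_neg (show ¬ k - 1 < h by omega), if_pos (show 2 * k = n by omega)] at h3
        simp only [mid, dif_pos (show Even n from ⟨k, hk⟩)] at h3
        exact (cast_bijective _).1 (hfx h3)
      · have : Subsingleton M := by simp only [M]; rw [if_neg hev]; infer_instance
        exact Subsingleton.elim _ _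
  refine le_trans (le_of_eq ?_) (Nat.card_le_card_of_injective _ hinj)
  rw [Nat.card_prod, Nat.card_fun, Nat.card_fin, Nat.card_eq_fintype_card (α := K), hK, ← pow_mul]
  by_cases hev : Even n
  · rw [show Nat.card M = q by simp only [M]; rw [if_pos hev, Nat.card_fin], ← pow_succ]
    obtain ⟨k, hk⟩ := hev
    congr 1
    omega
  · rw [show Nat.card M = 1 by simp only [M]; rw [if_neg hev, Nat.card_unique], mul_one]
    obtain ⟨k, hk⟩ := Nat.not_even_iff_odd.1 hev
    congr 1
    omega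

end CfsgLib.ClassCountU
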