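import Cfsg.Agent.ClassCountU.Data
import Cfsg.Agent.ClassCount.Classes
import Cfsg.Agent.SemisimpleSU.Conj

set_option autoImplicit false
set_option linter.style.haveILetI false

/-!
Elementary divisors in the unitary group: block sums, the conjugate-reciprocal symmetry, realisation, and
determinants in the centraliser.
-/

namespace CfsgLib.ClassCountU

open Polynomial Matrix CfsgLib.InvNorm CfsgLib.SemisimpleSU
open CfsgLib.ClassCount (Item IsItem size δ detD dataSet part Decomp dataOf)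

variable {K : Type*} [Field K] [Fintype K] {q n : ℕ} {σ : K →+* K}

/-- Every data multiset is the data of some matrix. -/
theorem exists_of_data {m : ℕ} {D : Multiset (Item K)} (hD : ∀ it ∈ D, IsItem it) (hs : size D = m) :
    ∃ g : GL (Fin m) K, dataOf g = D := by
  classical
  set L := D.toList with hL
  let P : Fin L.length → K[X] := fun i => (L.get i).1
  let e : Fin L.length → ℕ := fun i => (L.get i).2
  have hi : ∀ i, IsItem (P i, e i) := fun i => hD _ (Multiset.mem_toList.1 (List.get_mem L i))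
  have hmap : (Finset.univ : Finset (Fin L.length)).val.map (fun i => (P i, e i)) = D := by
    show (↑(List.finRange L.length) : Multiset (Fin L.length)).map L.get = D
    rw [Multiset.map_coe, ← List.ofFn_eq_map, List.ofFn_get, hL, Multiset.coe_toList]
  haveI : ∀ i, Module.Finite K (AdjoinRoot (P i ^ e i)) := fun i =>
    ClassCount.finite_adjoinRoot (pow_ne_zero _ (hi i).monic.ne_zero)
  have hdim : Module.finrank K (Fin m → K) = Module.finrank K ((i : Fin L.length) → AdjoinRoot (P i ^ e i)) := by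
    rw [Module.finrank_fin_fun, Module.finrank_pi_fintype, ← hs, ← hmap, size, Multiset.map_map,
      ← Finset.sum_eq_multiset_sum]
    exact Finset.sum_congr rfl fun i _ => by
      rw [ClassCount.finrank_adjoinRoot (pow_ne_zero _ (hi i).monic.ne_zero), natDegree_pow, mul_comm]
      rfl
  let φ := LinearEquiv.ofFinrankEq _ _ hdim
  let M : Matrix (Fin m) (Fin m) K := LinearMap.toMatrix' (φ.symm.toLinearMap.comp
    ((LinearMap.pi fun j => (LinearMap.mulLeft K (AdjoinRoot.root (P j ^ e j))).comp (LinearMap.proj j)).comp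
      φ.toLinearMap))
  let d : Decomp M :=
    { k := L.length
      P := P
      e := e
      item := hi
      φ := φ
      map_mulVec := fun v i => by simp [M, LinearMap.toMatrix'_mulVec] }
  have hdata : d.data = D := hmap
  have hdet : M.det ≠ 0 := by rw [d.det_eq, hdata]; exact detD_ne_zero hD
  exact ⟨Matrix.GeneralLinearGroup.mkOfDetNeZero M hdet,
    (ClassCount.dataOf_eq (g := Matrix.GeneralLinearGroup.mkOfDetNeZero M hdet) d).trans hdata⟩

/-- Elements of the multiset with first component `Q`, exponents cut at `k`. -/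
noncomputable def cutSum [DecidableEq K[X]] (D : Multiset (Item K)) (Q : K[X]) (k : ℕ) : ℕ :=
  (D.map fun it => if it.1 = Q then min k it.2 else 0).sum

theorem card_ker [DecidableEq K[X]] (g : GL (Fin n) K) {Q : K[X]} (hQ : IsItem (Q, 1)) (k : ℕ) :
    Nat.card {v : Fin n → K // (aeval (g : Matrix (Fin n) (Fin n) K) (Q ^ k)).mulVec v = 0} =
      Fintype.card K ^ (Q.natDegree * cutSum (dataOf g) Q k) :=
  (Classical.choice (ClassCount.exists_decomp (g : Matrix (Fin n) (Fin n) K)
    (Matrix.GeneralLinearGroup.det_ne_zero g))).kernel_count hQ k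

theorem dataOf_valid (g : GL (Fin n) K) : ∀ it ∈ dataOf g, IsItem it := fun it hit =>
  ((Decomp.mem_data _).1 it hit).1

theorem dataOf_size (g : GL (Fin n) K) : size (dataOf g) = n := Decomp.size_eq _

theorem dataOf_det (g : GL (Fin n) K) : detD (dataOf g) = (g : Matrix (Fin n) (Fin n) K).det :=
  (Decomp.det_eq _).symm

/-- The data is determined by kernel sizes. -/
theorem dataOf_eq_of_counts [DecidableEq K[X]] {g : GL (Fin n) K} {D : Multiset (Item K)}
    (hD : ∀ it ∈ D, IsItem it)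
    (h : ∀ Q : K[X], IsItem (Q, 1) → ∀ k,
      Nat.card {v : Fin n → K // (aeval (g : Matrix (Fin n) (Fin n) K) (Q ^ k)).mulVec v = 0} =
        Fintype.card K ^ (Q.natDegree * cutSum D Q k)) :
    dataOf g = D := by
  have hs : ∀ (Q : K[X]), IsItem (Q, 1) → ∀ k, cutSum (dataOf g) Q k = cutSum D Q k := fun Q hQ k =>
    Nat.eq_of_mul_eq_mul_left hQ.deg_pos
      (Nat.pow_right_injective Fintype.one_lt_card ((card_ker g hQ k).symm.trans (h Q hQ k)))
  refine Multiset.ext.2 fun it => ?_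
  obtain ⟨Q, e⟩ := it
  by_cases hitem : IsItem (Q, e)
  · obtain ⟨e, rfl⟩ : ∃ e', e = e' + 1 := ⟨e - 1, by have := hitem.pos; simp at this; omega⟩
    have hQ : IsItem (Q, 1) := ⟨hitem.monic, hitem.irr, hitem.coeff_ne, le_rfl⟩
    have h1 := ClassCount.count_eq_of_sums (dataOf_valid g) Q e
    have h2 := ClassCount.count_eq_of_sums hD Q e
    simp only [← cutSum.eq_def] at h1 h2
    rw [hs Q hQ, hs Q hQ, hs Q hQ] at h1
    omega
  · rw [Multiset.count_eq_zero.2 fun h => hitem (dataOf_valid g _ h),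
      Multiset.count_eq_zero.2 fun h => hitem (hD _ h)]

section Blocks

variable {a b : ℕ}

theorem blk_add (A A' : Matrix (Fin a) (Fin a) K) (B B' : Matrix (Fin b) (Fin b) K) :
    blk (A + A', B + B') = blk (A, B) + blk (A', B') := by
  simp only [blk_apply]
  ext i j
  simp only [Matrix.submatrix_apply, Matrix.add_apply]
  rcases finSumFinEquiv.symm i with i | i <;> rcases finSumFinEquiv.symm j with j | j <;> simp

theorem blk_smul (r : K) (A : Matrix (Fin a) (Fin a) K) (B : Matrix (Fin b) (Fin b) K) :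
    blk (r • A, r • B) = r • blk (A, B) := by
  simp only [blk_apply]
  ext i j
  simp only [Matrix.submatrix_apply, Matrix.smul_apply]
  rcases finSumFinEquiv.symm i with i | i <;> rcases finSumFinEquiv.symm j with j | j <;> simp

theorem aeval_blk (A : Matrix (Fin a) (Fin a) K) (B : Matrix (Fin b) (Fin b) K) (f : K[X]) :
    aeval (blk (A, B)) f = blk (aeval A f, aeval B f) := by
  induction f using Polynomial.induction_on' with
  | add p r hp hr => rw [map_add, map_add, map_add, hp, hr, blk_add]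
  | monomial m r =>
    rw [aeval_monomial, aeval_monomial, aeval_monomial, Algebra.algebraMap_eq_smul_one,
      Algebra.algebraMap_eq_smul_one, Algebra.algebraMap_eq_smul_one, smul_mul_assoc, one_mul, smul_mul_assoc,
      one_mul, smul_mul_assoc, one_mul, blk_smul, ← map_pow, Prod.pow_mk]

theorem blk_mulVec (X : Matrix (Fin a) (Fin a) K) (Y : Matrix (Fin b) (Fin b) K) (v : Fin (a + b) → K) :
    blk (X, Y) *ᵥ v = Sum.elim (X *ᵥ (v ∘ finSumFinEquiv ∘ Sum.inl)) (Y *ᵥ (v ∘ finSumFinEquiv ∘ Sum.inr)) ∘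
      finSumFinEquiv.symm := by
  rw [blk_apply, Matrix.submatrix_mulVec_equiv, Equiv.symm_symm, Matrix.fromBlocks_mulVec]
  simp [Function.comp_assoc]

theorem card_ker_blk (X : Matrix (Fin a) (Fin a) K) (Y : Matrix (Fin b) (Fin b) K) :
    Nat.card {v : Fin (a + b) → K // blk (X, Y) *ᵥ v = 0} =
      Nat.card {v : Fin a → K // X *ᵥ v = 0} * Nat.card {v : Fin b → K // Y *ᵥ v = 0} := by
  rw [← Nat.card_prod]
  refine Nat.card_congr ((Equiv.subtypeEquiv
    ((Equiv.arrowCongr finSumFinEquiv.symm (Equiv.refl K)).trans (Equiv.sumArrowEquivProdArrow _ _ _))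
    (p := fun v => blk (X, Y) *ᵥ v = 0) (q := fun w => X *ᵥ w.1 = 0 ∧ Y *ᵥ w.2 = 0) fun v => ?_).trans
    (Equiv.subtypeProdEquivProd (p := fun v => X *ᵥ v = 0) (q := fun v => Y *ᵥ v = 0)))
  rw [blk_mulVec]
  constructor
  · intro h
    refine ⟨funext fun i => ?_, funext fun i => ?_⟩
    · have := congrFun h (finSumFinEquiv (Sum.inl i))
      rw [Function.comp_apply, Equiv.symm_apply_apply] at this
      exact this
    · have := congrFun h (finSumFinEquiv (Sum.inr i))
      rw [Function.comp_apply, Equiv.symm_apply_apply] at this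
      exact this
  · rintro ⟨h1, h2⟩
    funext j
    rcases hj : finSumFinEquiv.symm j with i | i <;> simp only [Function.comp_apply, hj, Sum.elim_inl, Sum.elim_inr]
    · exact congrFun h1 i
    · exact congrFun h2 i

theorem dataOf_blk (A : GL (Fin a) K) (B : GL (Fin b) K) :
    dataOf (blkUnits (A, B)) = dataOf A + dataOf B := by
  classical
  refine dataOf_eq_of_counts (fun it hit => ?_) fun Q hQ k => ?_
  · rcases Multiset.mem_add.1 hit with h | h
    · exact dataOf_valid A it h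
    · exact dataOf_valid B it h
  · rw [coe_blkUnits, aeval_blk, card_ker_blk, card_ker A hQ, card_ker B hQ, ← pow_add, ← mul_add]
    simp only [cutSum, Multiset.map_add, Multiset.sum_add]

end Blocks

theorem aeval_reflect (M : GL (Fin n) K) (m : ℕ) (f : K[X]) (hf : f.natDegree ≤ m) :
    aeval (M : Matrix (Fin n) (Fin n) K) (reflect m f) =
      aeval ((M⁻¹ : GL (Fin n) K) : Matrix (Fin n) (Fin n) K) f * (M : Matrix (Fin n) (Fin n) K) ^ m := by
  refine induction_with_natDegree_le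
    (fun f => aeval (M : Matrix (Fin n) (Fin n) K) (reflect m f) =
      aeval ((M⁻¹ : GL (Fin n) K) : Matrix (Fin n) (Fin n) K) f * (M : Matrix (Fin n) (Fin n) K) ^ m) m
    (by simp) ?_ ?_ f hf
  · intro i r _ hi
    rw [reflect_C_mul_X_pow, revAt_le hi, map_mul, map_mul, aeval_C, aeval_C, map_pow, map_pow, aeval_X, aeval_X,
      mul_assoc]
    congr 1
    obtain ⟨j, rfl⟩ : ∃ j, m = i + j := ⟨m - i, by omega⟩
    rw [Nat.add_sub_cancel_left, ← Units.val_pow_eq_pow_val, ← Units.val_pow_eq_pow_val, ← Units.val_pow_eq_pow_val,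
      ← Units.val_mul, pow_add, ← mul_assoc, inv_pow, inv_mul_cancel, one_mul]
  · intro f g _ _ h1 h2
    rw [reflect_add, map_add, map_add, h1, h2, add_mul]

theorem tau_smul (r : K) (X : Matrix (Fin n) (Fin n) K) : tau σ (r • X) = σ r • tau σ X := by
  ext i j; simp [tau]

theorem tau_zero : tau σ (0 : Matrix (Fin n) (Fin n) K) = 0 := by
  ext i j; simp [tau]

theorem tau_aeval (X : Matrix (Fin n) (Fin n) K) (f : K[X]) :
    tau σ (aeval X f) = aeval (tau σ X) (f.map σ) := by
  induction f using Polynomial.induction_on' with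
  | add p r hp hr => rw [map_add, tau_add, hp, hr, Polynomial.map_add, map_add]
  | monomial m r =>
    rw [map_monomial, aeval_monomial, aeval_monomial, ← Algebra.smul_def, ← Algebra.smul_def, tau_smul]
    congr 1
    induction m with
    | zero => simp [tau_one]
    | succ m ih => rw [pow_succ, tau_mul, ih, ← pow_succ']

theorem card_ker_tau (hσσ : ∀ x, σ (σ x) = x) (X : Matrix (Fin n) (Fin n) K) :
    Nat.card {v : Fin n → K // tau σ X *ᵥ v = 0} = Nat.card {v : Fin n → K // X *ᵥ v = 0} := by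
  classical
  have hrank : ∀ Z : Matrix (Fin n) (Fin n) K,
      Nat.card {v : Fin n → K // Z *ᵥ v = 0} = Fintype.card K ^ (n - Z.rank) := by
    intro Z
    have h : Nat.card {v : Fin n → K // Z *ᵥ v = 0} = Nat.card (LinearMap.ker Z.mulVecLin) := rfl
    rw [h, Module.natCard_eq_pow_finrank (K := K), Nat.card_eq_fintype_card]
    congr 1
    have := LinearMap.finrank_range_add_finrank_ker Z.mulVecLin
    rw [Module.finrank_fin_fun] at this
    rw [Matrix.rank]
    omega
  have hT : Nat.card {v : Fin n → K // tau σ X *ᵥ v = 0} = Nat.card {v : Fin n → K // (X.map σ) *ᵥ v = 0} := by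
    rw [hrank, hrank, tau, Matrix.rank_transpose]
  rw [hT]
  let E : (Fin n → K) ≃ (Fin n → K) :=
    ⟨fun v i => σ (v i), fun v i => σ (v i), fun v => funext fun i => hσσ _, fun v => funext fun i => hσσ _⟩
  refine (Nat.card_congr (Equiv.subtypeEquiv E fun v => ?_)).symm
  have hE : X.map σ *ᵥ E v = fun i => σ ((X *ᵥ v) i) := funext fun i => (RingHom.map_mulVec σ X v i).symm
  rw [hE]
  constructor
  · intro h
    funext i
    rw [h]
    simp
  · intro h
    funext i
    have := congrFun h i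
    simp only [Pi.zero_apply] at this
    exact (map_eq_zero σ).1 this

theorem star_pow (Q : K[X]) (k : ℕ) : SemisimpleSU.star σ (Q ^ k) = SemisimpleSU.star σ Q ^ k := by
  induction k with
  | zero => rw [pow_zero, pow_zero, star_one]
  | succ k ih => rw [pow_succ, SemisimpleSU.star_mul, ih, pow_succ]

omit [Fintype K] in
theorem isItem_star' (hσσ : ∀ x, σ (σ x) = x) {P : K[X]} {e : ℕ} (h : IsItem (P, e)) :
    IsItem (SemisimpleSU.star σ P, e) :=
  isItem_star (it := (P, e)) hσσ h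

/-- Data of `(τ A)⁻¹`. -/
theorem dataOf_star (hσσ : ∀ x, σ (σ x) = x) (A A' : GL (Fin n) K)
    (hA : (A' : Matrix (Fin n) (Fin n) K) * tau σ (A : Matrix (Fin n) (Fin n) K) = 1) :
    dataOf A' = (dataOf A).map (starItem σ) := by
  classical
  refine dataOf_eq_of_counts (fun it hit => ?_) fun Q hQ k => ?_
  · obtain ⟨j, hj, rfl⟩ := Multiset.mem_map.1 hit
    exact isItem_star hσσ (dataOf_valid A j hj)
  · have hQ' : IsItem (SemisimpleSU.star σ Q, 1) := isItem_star' hσσ hQ
    have hM : tau σ (A : Matrix (Fin n) (Fin n) K) = ((A'⁻¹ : GL (Fin n) K) : Matrix (Fin n) (Fin n) K) :=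
      Units.eq_inv_of_mul_eq_one_left hA
    have hu : σ ((Q ^ k).coeff 0) ≠ 0 := by
      refine (map_ne_zero σ).2 ?_
      rw [← constantCoeff_apply, map_pow]
      exact pow_ne_zero _ hQ.coeff_ne
    have hrev : ((Q ^ k).map σ).reverse = C (σ ((Q ^ k).coeff 0)) * SemisimpleSU.star σ (Q ^ k) := by
      rw [SemisimpleSU.star, ← mul_assoc, ← C_mul, mul_inv_cancel₀ hu, C_1, one_mul]
    have hstar := star_pow (σ := σ) Q k
    set f := (Q ^ k).map σ with hf
    have h1 : tau σ (aeval (A : Matrix (Fin n) (Fin n) K) f.reverse) =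
        aeval ((A' : GL (Fin n) K) : Matrix (Fin n) (Fin n) K) (Q ^ k) *
          ((A'⁻¹ : GL (Fin n) K) : Matrix (Fin n) (Fin n) K) ^ (Q ^ k).natDegree := by
      have hfd : f.natDegree = (Q ^ k).natDegree := natDegree_map σ
      have h := aeval_reflect (A'⁻¹) (Q ^ k).natDegree (Q ^ k) le_rfl
      rw [inv_inv] at h
      rw [tau_aeval, hM, ← h]
      congr 1
      rw [reverse, hfd, hf, reflect_map, Polynomial.map_map]
      rw [show σ.comp σ = RingHom.id K from RingHom.ext hσσ, Polynomial.map_id]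
    have hker : Nat.card {v : Fin n → K // aeval (A' : Matrix (Fin n) (Fin n) K) (Q ^ k) *ᵥ v = 0} =
        Nat.card {v : Fin n → K // tau σ (aeval (A : Matrix (Fin n) (Fin n) K) f.reverse) *ᵥ v = 0} := by
      rw [h1, ← Units.val_pow_eq_pow_val]
      set U := (A'⁻¹) ^ (Q ^ k).natDegree
      let E : (Fin n → K) ≃ (Fin n → K) :=
        ⟨fun v => ((U⁻¹ : GL (Fin n) K) : Matrix (Fin n) (Fin n) K) *ᵥ v,
          fun v => (U : Matrix (Fin n) (Fin n) K) *ᵥ v,
          fun v => by
            simp only [Matrix.mulVec_mulVec, ← Units.val_mul, mul_inv_cancel, Units.val_one, Matrix.one_mulVec],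
          fun v => by
            simp only [Matrix.mulVec_mulVec, ← Units.val_mul, inv_mul_cancel, Units.val_one, Matrix.one_mulVec]⟩
      refine Nat.card_congr (Equiv.subtypeEquiv E fun v => ?_)
      show _ ↔ (_ * (U : Matrix (Fin n) (Fin n) K)) *ᵥ (((U⁻¹ : GL (Fin n) K) : Matrix (Fin n) (Fin n) K) *ᵥ v) = 0
      rw [Matrix.mulVec_mulVec, mul_assoc, ← Units.val_mul, mul_inv_cancel, Units.val_one, mul_one]
    rw [hker, card_ker_tau hσσ, hf, hrev, map_mul, aeval_C, ← Algebra.smul_def, hstar]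
    have hsm : Nat.card {v : Fin n → K //
        (σ ((Q ^ k).coeff 0) • aeval (A : Matrix (Fin n) (Fin n) K) (SemisimpleSU.star σ Q ^ k)) *ᵥ v = 0} =
        Nat.card {v : Fin n → K // aeval (A : Matrix (Fin n) (Fin n) K) (SemisimpleSU.star σ Q ^ k) *ᵥ v = 0} :=
      Nat.card_congr (Equiv.subtypeEquivRight fun v => by rw [Matrix.smul_mulVec, smul_eq_zero_iff_right hu])
    rw [hsm, card_ker A hQ', natDegree_star hQ.coeff_ne]
    congr 2
    simp only [cutSum, Multiset.map_map, Function.comp_def, starItem]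
    congr 1
    refine Multiset.map_congr rfl fun it hit => ?_
    have hv := dataOf_valid A it hit
    refine if_congr ⟨fun h => ?_, fun h => ?_⟩ rfl rfl
    · rw [h, star_star hσσ hQ.monic hQ.coeff_ne]
    · rw [← h, star_star hσσ hv.monic hv.coeff_ne]

theorem dataOf_GU_fixed (hσ : ∀ x, σ x = x ^ q) (hσσ : ∀ x, σ (σ x) = x) (A : Cfsg.GU n K q) :
    (dataOf (A : GL (Fin n) K)).map (starItem σ) = dataOf (A : GL (Fin n) K) :=
  (dataOf_star hσσ _ _ (mul_eq_one_comm.1 ((mem_GU_iff hσ hσσ _).1 A.2))).symm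

theorem dataOf_mem (hσ : ∀ x, σ x = x ^ q) (hσσ : ∀ x, σ (σ x) = x) (A : Cfsg.GU n K q) :
    dataOf (A : GL (Fin n) K) ∈ uSet σ 1 n :=
  ⟨⟨fun it hit => ⟨dataOf_valid _ it hit, (dataOf_valid _ it hit).pos⟩, dataOf_size _⟩,
    dataOf_GU_fixed hσ hσσ A⟩

theorem isConj_GL_of_dataOf {g h : GL (Fin n) K} (e : dataOf g = dataOf h) : IsConj g h :=
  ClassCount.isConj_of_data_eq _ _ e

/-- Invariant data is the data of a unitary matrix. -/
theorem exists_GU_of_data (hK : Fintype.card K = q ^ 2) (hσ : ∀ x, σ x = x ^ q) (hσσ : ∀ x, σ (σ x) = x)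
    {D : Multiset (Item K)} (hD : D ∈ uSet σ 1 n) :
    ∃ B : Cfsg.GU n K q, dataOf (B : GL (Fin n) K) = D := by
  obtain ⟨g, hg⟩ := exists_of_data (fun it hit => (hD.1.1 it hit).1) hD.1.2
  have hu := isUnit_tau (σ := σ) g.isUnit
  let f : GL (Fin n) K := hu.unit⁻¹
  have hf : f.1 = (tau σ g.1)⁻¹ := by rw [Matrix.inv_eq_right_inv (hu.mul_val_inv)]
  have hd : dataOf f = D := by rw [dataOf_star hσσ g f hu.val_inv_mul, hg, hD.2]
  have hc := isConj_GL_of_dataOf (hg.trans hd.symm)
  have hσe : (⇑σ : K → K) = fun x => x ^ q := funext hσ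
  obtain ⟨B, hB⟩ := (Cfsg.Agent.S2588.result hK g).2 (by
    have := (Units.coeHom (Matrix (Fin n) (Fin n) K)).map_isConj hc
    simpa [tau, hσe, hf] using this)
  refine ⟨B, ?_⟩
  obtain ⟨c, hc⟩ := isConj_iff.1 hB
  rw [← hc, ClassCount.dataOf_conj, hg]

/-- An element of the centraliser of a block with data `E` = one item or a conjugate pair of items. -/
theorem exists_block_det (hσ : ∀ x, σ x = x ^ q) (hσσ : ∀ x, σ (σ x) = x) {a : ℕ}
    (B₁ : Cfsg.GU a K q) {P : K[X]} {e : ℕ} (hv : IsItem (P, e))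
    (hcase : (SemisimpleSU.star σ P = P ∧ dataOf (B₁ : GL (Fin a) K) = {(P, e)}) ∨
      (SemisimpleSU.star σ P ≠ P ∧ dataOf (B₁ : GL (Fin a) K) = {(P, e), (SemisimpleSU.star σ P, e)}))
    (u : Kˣ) :
    ∃ U₁ : Cfsg.GU a K q, U₁ * B₁ = B₁ * U₁ ∧
      (U₁ : GL (Fin a) K).1.det * σ ((u : K) ^ e) = (u : K) ^ e := by
  classical
  obtain ⟨x, hx⟩ := ClassCount.exists_det_lmul (P := P) ⟨hv.monic, hv.irr, hv.coeff_ne, le_rfl⟩ hv.pos u
  obtain ⟨x₀, rfl⟩ := AdjoinRoot.mk_surjective x
  set M₁ : Matrix (Fin a) (Fin a) K := (B₁ : GL (Fin a) K).1 with hM₁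
  obtain ⟨d⟩ := ClassCount.exists_decomp M₁ (Matrix.GeneralLinearGroup.det_ne_zero _)
  have hdE : d.data = dataOf (B₁ : GL (Fin a) K) := (ClassCount.dataOf_eq (g := (B₁ : GL (Fin a) K)) d).symm
  obtain ⟨f, hdet⟩ : ∃ f : K[X], (aeval M₁ f).det = (u : K) ^ e := by
    have hprod : ∀ f : K[X], (aeval M₁ f).det =
        (d.data.map fun j => LinearMap.det (LinearMap.mulLeft K (AdjoinRoot.mk (j.1 ^ j.2) f))).prod := by
      intro f
      rw [ClassCount.det_of_diag d (fun i => AdjoinRoot.mk _ f) (fun v i => ClassCount.map_aeval d f v i),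
        Decomp.data, Multiset.map_map]
      rfl
    rcases hcase with ⟨-, hE⟩ | ⟨h, hE⟩
    · refine ⟨x₀, ?_⟩
      rw [hprod, hdE, hE, Multiset.map_singleton, Multiset.prod_singleton]
      exact hx
    · have hi := isItem_star' hσσ hv
      obtain ⟨y, z, hyz⟩ : IsCoprime (P ^ e) (SemisimpleSU.star σ P ^ e) :=
        (hv.irr.coprime_iff_not_dvd.2 fun hd => h
          (eq_of_monic_of_associated hv.monic hi.monic (hv.irr.associated_of_dvd hi.irr hd)).symm).pow
      refine ⟨y * P ^ e + x₀ * (z * SemisimpleSU.star σ P ^ e), ?_⟩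
      rw [hprod, hdE, hE, Multiset.insert_eq_cons, Multiset.map_cons, Multiset.prod_cons, Multiset.map_singleton,
        Multiset.prod_singleton]
      simp only
      have e1 : AdjoinRoot.mk (P ^ e) (y * P ^ e + x₀ * (z * SemisimpleSU.star σ P ^ e)) =
          AdjoinRoot.mk (P ^ e) x₀ :=
        AdjoinRoot.mk_eq_mk.2 ⟨y * (1 - x₀), by linear_combination x₀ * hyz⟩
      have e2 : AdjoinRoot.mk (SemisimpleSU.star σ P ^ e) (y * P ^ e + x₀ * (z * SemisimpleSU.star σ P ^ e)) = 1 := by
        rw [← map_one (AdjoinRoot.mk (SemisimpleSU.star σ P ^ e))]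
        exact AdjoinRoot.mk_eq_mk.2 ⟨z * (x₀ - 1), by linear_combination hyz⟩
      rw [e1, e2, LinearMap.mulLeft_one, LinearMap.det_id, mul_one]
      exact hx
  set X₁ := aeval M₁ f with hX₁
  have htM : tau σ M₁ * M₁ = 1 := (mem_GU_iff hσ hσσ _).1 B₁.2
  have hXc : Commute X₁ M₁ := (Algebra.commute_of_mem_adjoin_self (aeval_mem_adjoin_singleton K M₁)).symm
  have htXc : Commute (tau σ X₁) M₁ := by
    rw [hX₁, tau_aeval]
    refine (Algebra.commute_of_mem_adjoin_singleton_of_commute (aeval_mem_adjoin_singleton K _) ?_).symm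
    show M₁ * tau σ M₁ = tau σ M₁ * M₁
    rw [htM, mul_eq_one_comm.1 htM]
  have hcomm : Commute X₁ (tau σ X₁) := by
    rw [hX₁]
    exact ((Algebra.commute_of_mem_adjoin_singleton_of_commute (aeval_mem_adjoin_singleton K M₁) htXc)).symm
  have hXu : IsUnit X₁ := by
    rw [Matrix.isUnit_iff_isUnit_det, hdet]; exact (pow_ne_zero _ u.ne_zero).isUnit
  have htu := isUnit_tau (σ := σ) hXu
  set T : GL (Fin a) K := htu.unit with hT
  have hTX : (T : Matrix (Fin a) (Fin a) K) = tau σ X₁ := htu.unit_spec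
  set Ti : Matrix (Fin a) (Fin a) K := ((T⁻¹ : GL (Fin a) K) : Matrix (Fin a) (Fin a) K) with hTi
  have hTT : tau σ X₁ * Ti = 1 := by rw [← hTX, hTi, ← Units.val_mul, mul_inv_cancel, Units.val_one]
  have hU₁ : hXu.unit * T⁻¹ ∈ Cfsg.GU a K q := by
    rw [mem_GU_iff hσ hσσ]
    show tau σ (X₁ * Ti) * (X₁ * Ti) = 1
    have h1 : tau σ Ti * X₁ = 1 := by
      have := congrArg (tau σ) hTT
      rwa [tau_mul, tau_tau hσσ, tau_one] at this
    rw [tau_mul]
    calc tau σ Ti * tau σ X₁ * (X₁ * Ti) = tau σ Ti * (tau σ X₁ * X₁) * Ti := by simp only [mul_assoc]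
      _ = tau σ Ti * X₁ * (tau σ X₁ * Ti) := by rw [← hcomm.eq]; simp only [mul_assoc]
      _ = 1 := by rw [h1, hTT, one_mul]
  refine ⟨⟨_, hU₁⟩, Subtype.ext ?_, ?_⟩
  · have e1 : Commute hXu.unit (B₁ : GL (Fin a) K) := Units.ext hXc.eq
    have e2 : Commute T (B₁ : GL (Fin a) K) := Units.ext (by
      show (T : Matrix (Fin a) (Fin a) K) * M₁ = M₁ * T
      rw [hTX]; exact htXc.eq)
    exact (e1.mul_left e2.inv_left).eq
  · have hts : σ ((u : K) ^ e) = (T : Matrix (Fin a) (Fin a) K).det := by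
      rw [hTX, tau, Matrix.det_transpose, ← hdet, RingHom.map_det]; rfl
    rw [hts, ← Matrix.det_mul, ← hdet]
    congr 1
    show (hXu.unit * T⁻¹ * T : GL (Fin a) K).1 = X₁
    rw [inv_mul_cancel_right]
    exact hXu.unit_spec

/-- A unitary element with determinant `u^(e(1-q))` centralising `A`, for every exponent `e`. -/
theorem exists_centralizer_det (hK : Fintype.card K = q ^ 2) (hσ : ∀ x, σ x = x ^ q) (hσσ : ∀ x, σ (σ x) = x)
    (A : Cfsg.GU n K q) {P : K[X]} {e : ℕ} (hit : (P, e) ∈ dataOf (A : GL (Fin n) K)) (u : Kˣ) :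
    ∃ U : Cfsg.GU n K q, U * A = A * U ∧
      (U : GL (Fin n) K).1.det * σ ((u : K) ^ e) = (u : K) ^ e := by
  classical
  have hDs := dataOf_GU_fixed hσ hσσ A
  have hv := dataOf_valid (A : GL (Fin n) K) _ hit
  have hP' : ((SemisimpleSU.star σ P, e) : Item K) ∈ dataOf (A : GL (Fin n) K) := by
    rw [← hDs]
    exact Multiset.mem_map.2 ⟨(P, e), hit, rfl⟩
  have hstar2 : SemisimpleSU.star σ (SemisimpleSU.star σ P) = P := star_star hσσ hv.monic hv.coeff_ne
  obtain ⟨E, hEle, hEs, hcase⟩ : ∃ E : Multiset (Item K), E ≤ dataOf (A : GL (Fin n) K) ∧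
      E.map (starItem σ) = E ∧ ((SemisimpleSU.star σ P = P ∧ E = {(P, e)}) ∨
        (SemisimpleSU.star σ P ≠ P ∧ E = {(P, e), (SemisimpleSU.star σ P, e)})) := by
    by_cases h : SemisimpleSU.star σ P = P
    · refine ⟨_, Multiset.singleton_le.2 hit, ?_, Or.inl ⟨h, rfl⟩⟩
      rw [Multiset.map_singleton, starItem, h]
    · refine ⟨_, ?_, ?_, Or.inr ⟨h, rfl⟩⟩
      · refine (Multiset.le_iff_subset ?_).2 ?_
        · simp [Multiset.insert_eq_cons, Ne.symm h]
        · intro j hj
          simp only [Multiset.insert_eq_cons, Multiset.mem_cons, Multiset.mem_singleton] at hj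
          rcases hj with rfl | rfl
          · exact hit
          · exact hP'
      · simp only [Multiset.insert_eq_cons, Multiset.map_cons, Multiset.map_singleton, starItem, hstar2]
        exact Multiset.cons_swap _ _ 0
  obtain ⟨R, hR⟩ := Multiset.le_iff_exists_add.1 hEle
  have hRs : R.map (starItem σ) = R := by
    have := hDs
    rw [hR, Multiset.map_add, hEs] at this
    exact add_left_cancel this
  have hval : ∀ j ∈ E + R, IsItem j := fun j hj => dataOf_valid (A : GL (Fin n) K) j (by rw [hR]; exact hj)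
  obtain ⟨a, ha⟩ : ∃ a, size E = a := ⟨_, rfl⟩
  obtain ⟨b, hb⟩ : ∃ b, size R = b := ⟨_, rfl⟩
  obtain rfl : n = a + b := by
    rw [← ha, ← hb, ← ClassCount.size_add, ← hR]; exact (dataOf_size _).symm
  obtain ⟨B₁, hB₁⟩ := exists_GU_of_data (n := a) (D := E) hK hσ hσσ
    ⟨⟨fun j hj => ⟨hval j (Multiset.mem_add.2 (Or.inl hj)), (hval j (Multiset.mem_add.2 (Or.inl hj))).pos⟩, ha⟩, hEs⟩
  obtain ⟨B₂, hB₂⟩ := exists_GU_of_data (n := b) (D := R) hK hσ hσσ
    ⟨⟨fun j hj => ⟨hval j (Multiset.mem_add.2 (Or.inr hj)), (hval j (Multiset.mem_add.2 (Or.inr hj))).pos⟩, hb⟩, hRs⟩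
  obtain ⟨U₁, hU₁c, hU₁d⟩ := exists_block_det hσ hσσ B₁ hv (by rw [hB₁]; exact hcase) u
  let B : Cfsg.GU (a + b) K q := ⟨_, blkUnits_mem ⟨σ, hσ, hσσ⟩ B₁ B₂⟩
  have hconj : IsConj B A := (Cfsg.Agent.S2587.result hK B A).2 (isConj_GL_of_dataOf (by
    show dataOf (blkUnits ((B₁ : GL (Fin a) K), (B₂ : GL (Fin b) K))) = dataOf (A : GL (Fin (a + b)) K)
    rw [dataOf_blk, hB₁, hB₂, hR]))
  obtain ⟨p, hp⟩ := isConj_iff.1 hconj
  let U : Cfsg.GU (a + b) K q := ⟨_, blkUnits_mem ⟨σ, hσ, hσσ⟩ U₁ (1 : Cfsg.GU b K q)⟩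
  have hUB : U * B = B * U := by
    apply Subtype.ext
    show blkUnits _ * blkUnits _ = blkUnits _ * blkUnits _
    rw [← map_mul, ← map_mul]
    congr 1
    exact Prod.ext (congrArg Subtype.val hU₁c) (by simp)
  refine ⟨p * U * p⁻¹, ?_, ?_⟩
  · rw [← hp]
    calc p * U * p⁻¹ * (p * B * p⁻¹) = p * (U * B) * p⁻¹ := by group
      _ = p * (B * U) * p⁻¹ := by rw [hUB]
      _ = p * B * p⁻¹ * (p * U * p⁻¹) := by group
  · show (((p : GL (Fin (a + b)) K) * (U : GL _ K) * (p : GL (Fin (a + b)) K)⁻¹ : GL _ K)).1.det * _ = _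
    rw [Units.val_mul, Units.val_mul, Matrix.det_units_conj]
    show (blkUnits ((U₁ : GL (Fin a) K), ((1 : Cfsg.GU b K q) : GL (Fin b) K))).1.det * _ = _
    rw [coe_blkUnits, det_blk]
    simp only [OneMemClass.coe_one, Units.val_one, Matrix.det_one, mul_one]
    exact hU₁d

end CfsgLib.ClassCountU
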