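import Cfsg.Agent.ClassCountU.Numeric
import Cfsg.Agent.ClassCount.Data
import Cfsg.Agent.SemisimpleSU.Star

set_option autoImplicit false

/-!
Elementary-divisor data invariant under the conjugate-reciprocal map, and their number by weight and by determinant.
-/

namespace CfsgLib.ClassCountU

open Polynomial CfsgLib.SemisimpleSU
open CfsgLib.ClassCount (Item IsItem size δ detD dataSet part)

variable {K : Type*} [Field K] {σ : K →+* K}

/-- The conjugate-reciprocal item. -/
noncomputable def starItem (σ : K →+* K) (it : Item K) : Item K := (SemisimpleSU.star σ it.1, it.2)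

theorem star_one : SemisimpleSU.star σ (1 : K[X]) = 1 := by
  rw [SemisimpleSU.star, Polynomial.map_one, coeff_one_zero, map_one, inv_one, C_1, one_mul, ← C_1, reverse_C]

theorem star_multiset_prod (A : Multiset K[X]) : SemisimpleSU.star σ A.prod = (A.map (SemisimpleSU.star σ)).prod := by
  induction A using Multiset.induction with
  | empty => simp [star_one]
  | cons a A ih => rw [Multiset.prod_cons, SemisimpleSU.star_mul, ih, Multiset.map_cons, Multiset.prod_cons]

theorem isItem_star (hσσ : ∀ x, σ (σ x) = x) {it : Item K} (h : IsItem it) : IsItem (starItem σ it) :=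
  ⟨monic_star h.coeff_ne, irreducible_star hσσ h.monic h.coeff_ne h.irr, by
    show (SemisimpleSU.star σ it.1).coeff 0 ≠ 0
    rw [coeff_zero_star h.monic]
    exact inv_ne_zero ((map_ne_zero σ).2 h.coeff_ne), h.pos⟩

theorem part_map_star (D : Multiset (Item K)) (e : ℕ) :
    part (D.map (starItem σ)) e = SemisimpleSU.star σ (part D e) := by
  rw [part, part, star_multiset_prod, Multiset.filter_map, Multiset.map_map, Multiset.map_map]
  rfl

theorem part_fixed {D : Multiset (Item K)} (h : D.map (starItem σ) = D) (e : ℕ) :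
    SemisimpleSU.star σ (part D e) = part D e := by
  conv_rhs => rw [← h, part_map_star]

theorem filter_fixed {D : Multiset (Item K)} (h : D.map (starItem σ) = D) (i : ℕ) :
    (D.filter fun it => ¬ it.2 = i).map (starItem σ) = D.filter fun it => ¬ it.2 = i := by
  conv_rhs => rw [← h, Multiset.filter_map]
  rfl

/-- The coefficients of a self-dual polynomial. -/
theorem coeff_of_star {f : K[X]} (h : SemisimpleSU.star σ f = f) {k : ℕ} (hk : k ≤ f.natDegree) :
    f.coeff k = (σ (f.coeff 0))⁻¹ * σ (f.coeff (f.natDegree - k)) := by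
  conv_lhs => rw [← h, SemisimpleSU.star, coeff_C_mul, coeff_reverse, natDegree_map, revAt_le hk, coeff_map]

/-- Self-dual monic polynomials of degree `d` with constant term `a`. -/
def selfDual (σ : K →+* K) (d : ℕ) (a : K) : Set K[X] :=
  {f | f.Monic ∧ f.natDegree = d ∧ f.coeff 0 = a ∧ SemisimpleSU.star σ f = f}

/-- Data of weight `m`, exponents at least `i`, invariant under the conjugate-reciprocal map. -/
def uSet (σ : K →+* K) (i m : ℕ) : Set (Multiset (Item K)) :=
  {D | D ∈ dataSet K i m ∧ D.map (starItem σ) = D}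

/-- The same with prescribed determinant. -/
def uDetSet (σ : K →+* K) (n : ℕ) (u : K) : Set (Multiset (Item K)) :=
  {D | D ∈ uSet σ 1 n ∧ detD D = u}

variable [Fintype K] {q : ℕ}

theorem two_le_of_card (hK : Fintype.card K = q ^ 2) : 2 ≤ q := by
  have h1 : 1 < q ^ 2 := hK ▸ Fintype.one_lt_card
  by_contra h
  interval_cases q <;> simp at h1

theorem card_selfDual_le (hK : Fintype.card K = q ^ 2) (hσ : ∀ x, σ x = x ^ q) (d : ℕ) (a : K) :
    Finite (selfDual σ (d + 1) a) ∧ Nat.card (selfDual σ (d + 1) a) ≤ q ^ d := by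
  classical
  have hq := two_le_of_card hK
  let Mid : Finset K := (X ^ q - C (σ a) * X : K[X]).roots.toFinset
  have hne : (X ^ q - C (σ a) * X : K[X]) ≠ 0 := by
    intro h
    have := congrArg (fun p : K[X] => p.coeff q) h
    simp only [coeff_sub, coeff_X_pow, if_pos, coeff_C_mul, coeff_X, coeff_zero] at this
    rw [if_neg (by omega), mul_zero, sub_zero] at this
    exact one_ne_zero this
  have hmid : Mid.card ≤ q := by
    refine (Multiset.toFinset_card_le _).trans ((card_roots' _).trans ?_)
    refine (natDegree_sub_le _ _).trans (max_le (natDegree_X_pow _).le ?_)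
    exact (natDegree_C_mul_le _ _).trans (natDegree_X_le.trans (by omega))
  have key : ∀ f : selfDual σ (d + 1) a, ∀ k, k ≤ d + 1 →
      f.1.coeff k = (σ a)⁻¹ * σ (f.1.coeff (d + 1 - k)) := by
    intro f k hk
    have := coeff_of_star f.2.2.2.2 (k := k) (by rw [f.2.2.1]; exact hk)
    rwa [f.2.2.1, f.2.2.2.1] at this
  have ha0 : ∀ f : selfDual σ (d + 1) a, σ a ≠ 0 := by
    intro f h0
    have h := key f (d + 1) le_rfl
    have h1 := f.2.1.coeff_natDegree
    rw [f.2.2.1] at h1
    rw [h1, h0, _root_.inv_zero, zero_mul] at h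
    exact one_ne_zero h
  have hext : ∀ f g : selfDual σ (d + 1) a,
      (∀ k, 1 ≤ k → 2 * k ≤ d + 1 → f.1.coeff k = g.1.coeff k) → f = g := by
    intro f g h
    refine Subtype.ext (Polynomial.ext fun k => ?_)
    rcases Nat.eq_zero_or_pos k with rfl | hk
    · rw [f.2.2.2.1, g.2.2.2.1]
    rcases le_or_gt (2 * k) (d + 1) with h2 | h2
    · exact h k hk h2
    rcases le_or_gt k (d + 1) with h3 | h3
    · rw [key f k h3, key g k h3]
      congr 2
      rcases Nat.eq_zero_or_pos (d + 1 - k) with h4 | h4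
      · rw [h4, f.2.2.2.1, g.2.2.2.1]
      · exact h _ h4 (by omega)
    · rw [coeff_eq_zero_of_natDegree_lt (by rw [f.2.2.1]; exact h3),
        coeff_eq_zero_of_natDegree_lt (by rw [g.2.2.1]; exact h3)]
  have hcard : Fintype.card K = q * q := by rw [hK, sq]
  rcases Nat.even_or_odd' d with ⟨h, rfl | rfl⟩
  · let f₀ : selfDual σ (2 * h + 1) a → (Fin h → K) := fun f j => f.1.coeff (j.1 + 1)
    have hinj : Function.Injective f₀ := by
      intro f g e
      refine hext f g fun k hk h2 => ?_
      obtain ⟨j, rfl⟩ : ∃ j, k = j + 1 := ⟨k - 1, by omega⟩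
      exact congrFun e ⟨j, by omega⟩
    refine ⟨Finite.of_injective _ hinj, (Nat.card_le_card_of_injective _ hinj).trans (le_of_eq ?_)⟩
    rw [Nat.card_fun, Nat.card_fin, Nat.card_eq_fintype_card (α := K), hcard, ← sq, ← pow_mul]
  · have hmem : ∀ f : selfDual σ (2 * h + 1 + 1) a, f.1.coeff (h + 1) ∈ Mid := by
      intro f
      rw [Multiset.mem_toFinset, mem_roots hne, IsRoot, eval_sub, eval_pow, eval_X, eval_mul, eval_C, eval_X, ← hσ]
      have hk := key f (h + 1) (by omega)
      rw [show 2 * h + 1 + 1 - (h + 1) = h + 1 by omega] at hk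
      rw [eq_inv_mul_iff_mul_eq₀ (ha0 f)] at hk
      rw [← hk, sub_self]
    let f₀ : selfDual σ (2 * h + 1 + 1) a → (Fin h → K) × Mid := fun f =>
      (fun j => f.1.coeff (j.1 + 1), ⟨_, hmem f⟩)
    have hinj : Function.Injective f₀ := by
      intro f g e
      refine hext f g fun k hk h2 => ?_
      obtain ⟨j, rfl⟩ : ∃ j, k = j + 1 := ⟨k - 1, by omega⟩
      rcases lt_or_ge j h with hj | hj
      · exact congrFun (congrArg Prod.fst e) ⟨j, hj⟩
      · rw [show j = h by omega]
        exact congrArg (fun z : (Fin h → K) × Mid => z.2.1) e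
    refine ⟨Finite.of_injective _ hinj, (Nat.card_le_card_of_injective _ hinj).trans ?_⟩
    rw [Nat.card_prod, Nat.card_fun, Nat.card_fin, Nat.card_eq_fintype_card (α := K), hcard, ← sq, ← pow_mul,
      Nat.card_eq_finsetCard, pow_succ]
    exact Nat.mul_le_mul_left _ hmid

/-- Self-dual monic polynomials of degree `d` with nonzero constant term. -/
def selfDualNe (σ : K →+* K) (d : ℕ) : Set K[X] :=
  {f | f.Monic ∧ f.natDegree = d ∧ f.coeff 0 ≠ 0 ∧ SemisimpleSU.star σ f = f}

theorem card_selfDualNe_le (hK : Fintype.card K = q ^ 2) (hσ : ∀ x, σ x = x ^ q) (d : ℕ) :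
    Finite (selfDualNe σ d) ∧ Nat.card (selfDualNe σ d) ≤ c q d := by
  classical
  rcases d with _ | d
  · have : Subsingleton (selfDualNe σ 0) := ⟨fun h h' => Subtype.ext (by
      rw [h.2.1.natDegree_eq_zero.1 h.2.2.1, h'.2.1.natDegree_eq_zero.1 h'.2.2.1])⟩
    exact ⟨inferInstance, by rw [c_zero]; exact Finite.card_le_one_iff_subsingleton.2 this⟩
  · have hq := two_le_of_card hK
    let A : Finset K := (nthRoots (q + 1) (1 : K)).toFinset
    have hA : A.card ≤ q + 1 := (Multiset.toFinset_card_le _).trans (card_nthRoots _ _)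
    have hmem : ∀ f : selfDualNe σ (d + 1), f.1.coeff 0 ∈ A := by
      intro f
      rw [Multiset.mem_toFinset, mem_nthRoots (by omega), pow_succ, ← hσ]
      have h := coeff_of_star f.2.2.2.2 (k := 0) (Nat.zero_le _)
      rw [Nat.sub_zero, f.2.1.coeff_natDegree, map_one, mul_one] at h
      calc σ (f.1.coeff 0) * f.1.coeff 0 = σ (f.1.coeff 0) * (σ (f.1.coeff 0))⁻¹ := by rw [← h]
        _ = 1 := mul_inv_cancel₀ ((map_ne_zero σ).2 f.2.2.2.1)
    haveI : ∀ a : A, Finite (selfDual σ (d + 1) (a : K)) := fun a => (card_selfDual_le hK hσ d _).1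
    let f₀ : selfDualNe σ (d + 1) → Σ a : A, selfDual σ (d + 1) (a : K) := fun f =>
      ⟨⟨_, hmem f⟩, ⟨f.1, f.2.1, f.2.2.1, rfl, f.2.2.2.2⟩⟩
    have hf : Function.Injective f₀ := fun h h' e =>
      Subtype.ext (congrArg (fun z : Σ a : A, selfDual σ (d + 1) (a : K) => (z.2 : K[X])) e)
    refine ⟨Finite.of_injective f₀ hf, (Nat.card_le_card_of_injective f₀ hf).trans ?_⟩
    rw [Nat.card_sigma, c_succ]
    refine (Finset.sum_le_card_nsmul Finset.univ (fun a : A => Nat.card (selfDual σ (d + 1) (a : K))) _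
      fun a _ => (card_selfDual_le hK hσ d _).2).trans ?_
    rw [Finset.card_univ, Fintype.card_coe, smul_eq_mul]
    exact Nat.mul_le_mul_right _ hA

instance finite_uSet (i m : ℕ) : Finite (uSet σ (i + 1) m) :=
  Finite.of_injective (fun D : uSet σ (i + 1) m => (⟨D.1, D.2.1⟩ : dataSet K (i + 1) m))
    fun _ _ h => Subtype.ext (congrArg (fun z : dataSet K (i + 1) m => (z : Multiset (Item K))) h)

instance finite_uDetSet (n : ℕ) (u : K) : Finite (uDetSet σ n u) :=
  Finite.of_injective (fun D : uDetSet σ n u => (⟨D.1, D.2.1⟩ : uSet σ (0 + 1) n))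
    fun _ _ h => Subtype.ext (congrArg (fun z : uSet σ (0 + 1) n => (z : Multiset (Item K))) h)

theorem card_uSet_le (hK : Fintype.card K = q ^ 2) (hσ : ∀ x, σ x = x ^ q) :
    ∀ (N i m : ℕ), 1 ≤ i → m + 1 - i ≤ N → Nat.card (uSet σ i m) ≤ W q i m := by
  intro N
  induction N with
  | zero =>
    intro i m hi hN
    have hsub : ∀ D ∈ uSet σ i m, D = 0 := by
      intro D hD
      refine Multiset.eq_zero_iff_forall_notMem.2 fun it hit => ?_
      have h1 := hD.1.1 it hit
      obtain ⟨D', rfl⟩ := Multiset.exists_cons_of_mem hit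
      have h2 := hD.1.2
      rw [ClassCount.size_cons] at h2
      have : 1 * i ≤ it.1.natDegree * it.2 := Nat.mul_le_mul h1.1.deg_pos h1.2
      omega
    haveI : Subsingleton (uSet σ i m) := ⟨fun D D' => Subtype.ext ((hsub _ D.2).trans (hsub _ D'.2).symm)⟩
    rcases Nat.eq_zero_or_pos m with rfl | hm
    · rw [W_zero]; exact Finite.card_le_one_iff_subsingleton.2 inferInstance
    · haveI : IsEmpty (uSet σ i m) := ⟨fun D => by
        have := D.2.1.2
        rw [hsub _ D.2] at this
        simp [size] at this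
        omega⟩
      simp
  | succ N ih =>
    intro i m hi hN
    haveI : ∀ d : Fin (m / i + 1), Finite (selfDualNe σ d.1) := fun d => (card_selfDualNe_le hK hσ d.1).1
    have hd : ∀ D : uSet σ i m, (part D.1 i).natDegree < m / i + 1 := fun D =>
      Nat.lt_succ_iff.2 ((Nat.le_div_iff_mul_le (by omega)).2 (ClassCount.mem_dataSet_split D.2.1).1)
    let f : uSet σ i m → Σ d : Fin (m / i + 1), selfDualNe σ d.1 × uSet σ (i + 1) (m - d.1 * i) := fun D =>
      ⟨⟨_, hd D⟩, ⟨part D.1 i, ClassCount.part_monic (fun it hit => (D.2.1.1 it hit).1) i, rfl,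
          ClassCount.part_coeff_ne (fun it hit => (D.2.1.1 it hit).1) i, part_fixed D.2.2 i⟩,
        ⟨_, (ClassCount.mem_dataSet_split D.2.1).2.1, filter_fixed D.2.2 i⟩⟩
    have hf : Function.Injective f := fun D D' e =>
      Subtype.ext (ClassCount.split_inj D.2.1 D'.2.1
        (congrArg (fun z : Σ d : Fin (m / i + 1), selfDualNe σ d.1 × uSet σ (i + 1) (m - d.1 * i) => (z.2.1 : K[X])) e)
        (congrArg (fun z : Σ d : Fin (m / i + 1), selfDualNe σ d.1 × uSet σ (i + 1) (m - d.1 * i) =>
          (z.2.2 : Multiset (Item K))) e))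
    refine (Nat.card_le_card_of_injective f hf).trans ?_
    rw [Nat.card_sigma, W_rec hi, Finset.sum_range]
    exact Finset.sum_le_sum fun d _ => by
      rw [Nat.card_prod]
      exact Nat.mul_le_mul (card_selfDualNe_le hK hσ d.1).2 (ih (i + 1) _ (by omega) (by omega))

theorem detD_ne_zero {D : Multiset (Item K)} (h : ∀ it ∈ D, IsItem it) : detD D ≠ 0 := by
  refine Multiset.prod_ne_zero fun h0 => ?_
  obtain ⟨it, hit, h0'⟩ := Multiset.mem_map.1 h0
  exact pow_ne_zero _ (mul_ne_zero (pow_ne_zero _ (neg_ne_zero.2 one_ne_zero)) (h it hit).coeff_ne) h0'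

theorem coeff_zero_of_split {D : Multiset (Item K)} {n : ℕ} (hD : D ∈ dataSet K 1 n) :
    (part D 1).coeff 0 =
      detD D * (detD (D.filter fun it => ¬ it.2 = 1))⁻¹ * (-1) ^ (part D 1).natDegree := by
  have hs := (ClassCount.mem_dataSet_split hD).2.2
  rw [pow_one, δ] at hs
  rw [hs, mul_assoc ((-1) ^ (part D 1).natDegree * (part D 1).coeff 0),
    mul_inv_cancel₀ (detD_ne_zero fun it hit => (hD.1 it (Multiset.mem_of_mem_filter hit)).1),
    mul_one, mul_comm, ← mul_assoc, ← mul_pow, neg_mul_neg, one_mul, one_pow, one_mul]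

theorem card_uDetSet_le (hK : Fintype.card K = q ^ 2) (hσ : ∀ x, σ x = x ^ q) (n : ℕ) (u : K) :
    Nat.card (uDetSet σ n u) ≤ detBound q n := by
  classical
  let A := {D : uDetSet σ n u // (part D.1 1).natDegree = 0}
  let B := {D : uDetSet σ n u // ¬ (part D.1 1).natDegree = 0}
  have hA : Nat.card A ≤ W q 2 n := by
    let f : A → uSet σ (1 + 1) n := fun D => ⟨_, by
      have := (ClassCount.mem_dataSet_split D.1.2.1.1).2.1
      rw [D.2, Nat.zero_mul, Nat.sub_zero] at this
      exact ⟨this, filter_fixed D.1.2.1.2 1⟩⟩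
    have hf : Function.Injective f := by
      intro D D' e
      apply Subtype.ext; apply Subtype.ext
      refine ClassCount.split_inj D.1.2.1.1 D'.1.2.1.1 ?_
        (congrArg (fun z : uSet σ (1 + 1) n => (z : Multiset (Item K))) e)
      rw [(ClassCount.part_monic (fun it hit => (D.1.2.1.1.1 it hit).1) 1).natDegree_eq_zero.1 D.2,
        (ClassCount.part_monic (fun it hit => (D'.1.2.1.1.1 it hit).1) 1).natDegree_eq_zero.1 D'.2]
    exact (Nat.card_le_card_of_injective f hf).trans (card_uSet_le hK hσ _ 2 n (by norm_num) le_rfl)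
  have hB : Nat.card B ≤ ∑ a ∈ Finset.range n, q ^ a * W q 2 (n - 1 - a) := by
    let cst : (a : Fin n) → uSet σ (1 + 1) (n - 1 - a.1) → K := fun a E => u * (detD E.1)⁻¹ * (-1) ^ (a.1 + 1)
    haveI : ∀ (a : Fin n) (E : uSet σ (1 + 1) (n - 1 - a.1)), Finite (selfDual σ (a.1 + 1) (cst a E)) :=
      fun a E => (card_selfDual_le hK hσ _ _).1
    let T := Σ a : Fin n, Σ E : uSet σ (1 + 1) (n - 1 - a.1), selfDual σ (a.1 + 1) (cst a E)
    let f : B → T := fun D => ⟨⟨(part D.1.1 1).natDegree - 1, by
        have := (ClassCount.mem_dataSet_split D.1.2.1.1).1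
        have := D.2
        omega⟩,
      ⟨D.1.1.filter fun it => ¬ it.2 = 1, by
        have h := (ClassCount.mem_dataSet_split D.1.2.1.1).2.1
        have := D.2
        rw [show (part D.1.1 1).natDegree * 1 = (part D.1.1 1).natDegree by rw [mul_one]] at h
        refine ⟨?_, filter_fixed D.1.2.1.2 1⟩
        rwa [show n - 1 - ((part D.1.1 1).natDegree - 1) = n - (part D.1.1 1).natDegree by omega]⟩,
      ⟨part D.1.1 1, ClassCount.part_monic (fun it hit => (D.1.2.1.1.1 it hit).1) 1,
        (Nat.succ_pred_eq_of_ne_zero D.2).symm, by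
          have hd : (part D.1.1 1).natDegree - 1 + 1 = (part D.1.1 1).natDegree :=
            Nat.succ_pred_eq_of_ne_zero D.2
          show _ = u * (detD _)⁻¹ * (-1) ^ _
          rw [hd]
          exact (coeff_zero_of_split D.1.2.1.1).trans (congrArg (fun z : K => z * _ * _) D.1.2.2),
        part_fixed D.1.2.1.2 1⟩⟩
    have hf : Function.Injective f := by
      intro D D' e
      apply Subtype.ext; apply Subtype.ext
      exact ClassCount.split_inj D.1.2.1.1 D'.1.2.1.1
        (congrArg (fun z : T => (z.2.2 : K[X])) e)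
        (congrArg (fun z : T => (z.2.1 : Multiset (Item K))) e)
    refine (Nat.card_le_card_of_injective f hf).trans ?_
    haveI : ∀ a : Fin n, Fintype (uSet σ (1 + 1) (n - 1 - a.1)) := fun a => Fintype.ofFinite _
    rw [Nat.card_sigma, Finset.sum_range]
    refine Finset.sum_le_sum fun a _ => ?_
    rw [Nat.card_sigma]
    refine (Finset.sum_le_card_nsmul _ _ (q ^ a.1) fun E _ => (card_selfDual_le hK hσ _ _).2).trans ?_
    rw [Finset.card_univ, smul_eq_mul, mul_comm, ← Nat.card_eq_fintype_card]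
    exact Nat.mul_le_mul_left _ (card_uSet_le hK hσ _ 2 _ (by norm_num) le_rfl)
  have hsum : Nat.card (uDetSet σ n u) = Nat.card A + Nat.card B := by
    rw [← Nat.card_sum]
    exact Nat.card_congr (Equiv.sumCompl fun D : uDetSet σ n u => (part D.1 1).natDegree = 0).symm
  rw [detBound, hsum]
  omega

/-- The data of determinant one with all exponents divisible by `t`. -/
def uDvdSet (σ : K →+* K) (n t : ℕ) : Set (Multiset (Item K)) :=
  {D | D ∈ uDetSet σ n 1 ∧ ∀ it ∈ D, t ∣ it.2}

theorem card_uDvdSet_le (hK : Fintype.card K = q ^ 2) (hσ : ∀ x, σ x = x ^ q) (n : ℕ) {t : ℕ} (ht : 0 < t) :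
    Nat.card (uDvdSet σ n t) ≤ t * detBound q (n / t) := by
  classical
  let R : Finset K := (nthRoots t (1 : K)).toFinset
  have hR : R.card ≤ t := (Multiset.toFinset_card_le _).trans (card_nthRoots t _)
  let dn : Item K → Item K := fun it => (it.1, it.2 / t)
  let up : Item K → Item K := fun it => (it.1, it.2 * t)
  have hud : ∀ D ∈ uDvdSet σ n t, (D.map dn).map up = D := by
    intro D hD
    rw [Multiset.map_map]
    conv_rhs => rw [← Multiset.map_id D]
    exact Multiset.map_congr rfl fun it hit => Prod.ext rfl (Nat.div_mul_cancel (hD.2 it hit))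
  have hmem : ∀ D ∈ uDvdSet σ n t, (D.map dn) ∈ uSet σ 1 (n / t) ∧ detD (D.map dn) ^ t = 1 := by
    intro D hD
    refine ⟨⟨⟨fun it hit => ?_, ?_⟩, ?_⟩, ?_⟩
    · obtain ⟨j, hj, rfl⟩ := Multiset.mem_map.1 hit
      have h := (hD.1.1.1.1 j hj).1
      have hp : 1 ≤ j.2 / t := Nat.div_pos (Nat.le_of_dvd h.pos (hD.2 j hj)) ht
      exact ⟨⟨h.monic, h.irr, h.coeff_ne, hp⟩, hp⟩
    · have : size (D.map dn) * t = n := by
        conv_rhs => rw [← hD.1.1.1.2, ← hud D hD]
        simp only [size, Multiset.map_map, Function.comp_def, up]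
        rw [← Multiset.sum_map_mul_right]
        congr 1
        exact Multiset.map_congr rfl fun it _ => by ring
      rw [← this, Nat.mul_div_cancel _ ht]
    · conv_rhs => rw [← hD.1.1.2, Multiset.map_map]
      rw [Multiset.map_map]
      rfl
    · refine Eq.trans ?_ hD.1.2
      conv_rhs => rw [← hud D hD]
      simp only [detD, Multiset.map_map, Function.comp_def, up]
      rw [← Multiset.prod_map_pow]
      congr 1
      exact Multiset.map_congr rfl fun it _ => by rw [← pow_mul]
  let f : uDvdSet σ n t → Σ u : R, uDetSet σ (n / t) (u : K) := fun D =>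
    ⟨⟨detD (D.1.map dn), Multiset.mem_toFinset.2 ((mem_nthRoots ht).2 (hmem D.1 D.2).2)⟩,
      ⟨D.1.map dn, (hmem D.1 D.2).1, rfl⟩⟩
  have hf : Function.Injective f := by
    intro D D' e
    have he : D.1.map dn = D'.1.map dn :=
      congrArg (fun z : Σ u : R, uDetSet σ (n / t) (u : K) => (z.2 : Multiset (Item K))) e
    exact Subtype.ext (by rw [← hud D.1 D.2, ← hud D'.1 D'.2, he])
  refine (Nat.card_le_card_of_injective f hf).trans ?_
  rw [Nat.card_sigma]
  refine (Finset.sum_le_card_nsmul _ _ (detBound q (n / t)) fun u _ => card_uDetSet_le hK hσ _ _).trans ?_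
  rw [Finset.card_univ, Fintype.card_coe, smul_eq_mul]
  exact Nat.mul_le_mul_right _ hR

end CfsgLib.ClassCountU
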