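import Mathlib

set_option autoImplicit false

/-!
Arithmetic of the numbers `W q i m` for the unitary groups: weighted partitions of `m` into parts at least `i`, a
part size used `d` times weighing `c q d`, the number of self-dual monic polynomials of degree `d`.
-/

namespace CfsgLib.ClassCountU

/-- Self-dual monic polynomials of degree `d` with nonzero constant term, counted. -/
def c (q d : ℕ) : ℕ := if d = 0 then 1 else (q + 1) * q ^ (d - 1)

/-- Weighted partitions of `m` into parts `≥ i`. -/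
def W (q i m : ℕ) : ℕ :=
  if m = 0 then 1
  else if i = 0 ∨ m < i then 0
  else ∑ d ∈ Finset.range (m / i + 1), c q d * W q (i + 1) (m - d * i)
termination_by m + 1 - i
decreasing_by omega

variable {q : ℕ}

theorem c_zero : c q 0 = 1 := if_pos rfl

theorem c_succ (d : ℕ) : c q (d + 1) = (q + 1) * q ^ d := by simp [c]

theorem W_zero (i : ℕ) : W q i 0 = 1 := by rw [W]; simp

theorem W_eq_zero {i m : ℕ} (hm : m ≠ 0) (h : m < i) : W q i m = 0 := by rw [W]; simp [hm, h]

theorem W_rec {i : ℕ} (hi : 1 ≤ i) (m : ℕ) :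
    W q i m = ∑ d ∈ Finset.range (m / i + 1), c q d * W q (i + 1) (m - d * i) := by
  by_cases hm : m = 0
  · subst hm; simp [W_zero, c_zero]
  by_cases h : m < i
  · rw [W_eq_zero hm h, Nat.div_eq_of_lt h]
    simp [W_eq_zero hm (show m < i + 1 by omega)]
  conv_lhs => rw [W]
  rw [if_neg hm, if_neg (by omega)]

theorem W_self {i : ℕ} (hi : 1 ≤ i) : W q i i = q + 1 := by
  rw [W_rec hi, Nat.div_self (by omega)]
  simp [Finset.sum_range_succ, c_zero, c, W_zero, W_eq_zero (show i ≠ 0 by omega) (show i < i + 1 by omega)]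

/-- Bound for the data of weight `n` with prescribed determinant. -/
def detBound (q n : ℕ) : ℕ := (∑ a ∈ Finset.range n, q ^ a * W q 2 (n - 1 - a)) + W q 2 n

theorem detBound_one : detBound q 1 = 1 := by
  simp [detBound, W_zero, W_eq_zero]

theorem W_two_three : W q 2 3 = q + 1 := by
  rw [W_rec (by norm_num)]
  simp [Finset.sum_range_succ, c, W_self, W_eq_zero]

theorem W_two_four : W q 2 4 = (q + 1) + (q + 1) * q := by
  rw [W_rec (by norm_num), show (4 : ℕ) / 2 + 1 = 3 from rfl]
  simp only [Finset.sum_range_succ, Finset.sum_range_zero]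
  rw [W_rec (i := 2 + 1) (by norm_num) (4 - 0 * 2)]
  simp [Finset.sum_range_succ, c, W_zero, W_self, W_eq_zero]

theorem detBound_two : detBound q 2 = 2 * q + 1 := by
  simp [detBound, Finset.sum_range_succ, W_zero, W_self, W_eq_zero]
  omega

theorem detBound_three : detBound q 3 = q ^ 2 + 2 * q + 2 := by
  simp [detBound, Finset.sum_range_succ, W_zero, W_self, W_eq_zero, W_two_three]
  ring

theorem detBound_four : detBound q 4 ≤ q ^ 3 + 3 * q ^ 2 + 3 * q + 3 := by
  simp [detBound, Finset.sum_range_succ, W_zero, W_self, W_eq_zero, W_two_three, W_two_four]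
  nlinarith

/-- Partial sums of `∑ W q i j q^{-j}`. -/
def S (q i M : ℕ) : ℚ := ∑ j ∈ Finset.range (M + 1), (W q i j : ℚ) / (q : ℚ) ^ j

theorem S_rec (hq : 1 ≤ q) {i : ℕ} (hi : 1 ≤ i) (M : ℕ) :
    S q i M = ∑ d ∈ Finset.range (M / i + 1), (c q d : ℚ) / (q : ℚ) ^ (d * i) * S q (i + 1) (M - d * i) := by
  have hq0 : (q : ℚ) ≠ 0 := by exact_mod_cast (by omega : q ≠ 0)
  unfold S
  simp only [Finset.mul_sum]
  rw [Finset.sum_sigma']
  conv_lhs =>
    arg 2; ext j
    rw [W_rec hi, Nat.cast_sum, Finset.sum_div]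
  rw [Finset.sum_sigma']
  refine Finset.sum_nbij' (fun x => ⟨x.2, x.1 - x.2 * i⟩) (fun y => ⟨y.2 + y.1 * i, y.1⟩) ?_ ?_ ?_ ?_ ?_
  · rintro ⟨j, d⟩ h
    simp only [Finset.coe_sigma, Set.mem_sigma_iff, Finset.mem_sigma, Finset.mem_range, Finset.coe_range, Set.mem_Iio] at h ⊢
    have h1 : j / i ≤ M / i := Nat.div_le_div_right (by omega)
    have h2 : d * i ≤ j := le_trans (Nat.mul_le_mul_right i (show d ≤ j / i by omega)) (Nat.div_mul_le_self j i)
    omega
  · rintro ⟨d, l⟩ h
    simp only [Finset.coe_sigma, Set.mem_sigma_iff, Finset.mem_sigma, Finset.mem_range, Finset.coe_range, Set.mem_Iio] at h ⊢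
    have h2 : d * i ≤ M := le_trans (Nat.mul_le_mul_right i (show d ≤ M / i by omega)) (Nat.div_mul_le_self M i)
    have h3 : d ≤ (l + d * i) / i := by
      rw [Nat.add_mul_div_right _ _ (by omega : 0 < i)]; exact Nat.le_add_left _ _
    omega
  · rintro ⟨j, d⟩ h
    simp only [Finset.coe_sigma, Set.mem_sigma_iff, Finset.mem_sigma, Finset.mem_range, Finset.coe_range, Set.mem_Iio] at h
    have h2 : d * i ≤ j := le_trans (Nat.mul_le_mul_right i (show d ≤ j / i by omega)) (Nat.div_mul_le_self j i)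
    simp [Nat.sub_add_cancel h2]
  · rintro ⟨d, l⟩ h
    simp
  · rintro ⟨j, d⟩ h
    simp only [Finset.mem_sigma, Finset.mem_range] at h
    have h2 : d * i ≤ j := le_trans (Nat.mul_le_mul_right i (show d ≤ j / i by omega)) (Nat.div_mul_le_self j i)
    simp only [Nat.cast_mul]
    rw [div_mul_div_comm, ← pow_add, Nat.add_sub_cancel' h2]

/-- One step of the product bound: `y = q^{1-i}`. -/
theorem S_step (hq : 2 ≤ q) {i : ℕ} (hi : 2 ≤ i) {B : ℚ} (hB : ∀ M, S q (i + 1) M ≤ B) (M : ℕ) :
    S q i M ≤ (1 + (1 / q : ℚ) ^ i) / (1 - (1 / q : ℚ) ^ (i - 1)) * B := by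
  have hq' : (2 : ℚ) ≤ q := by exact_mod_cast hq
  have hB0 : 0 ≤ B := le_trans (Finset.sum_nonneg fun j _ => by positivity) (hB 0)
  set x : ℚ := 1 / q with hx
  have hx0 : 0 ≤ x := by rw [hx]; positivity
  have hx1 : x < 1 := by rw [hx, div_lt_one (by positivity)]; linarith
  set y : ℚ := x ^ (i - 1) with hy
  have hy0 : 0 ≤ y := pow_nonneg hx0 _
  have hy1 : y < 1 := pow_lt_one₀ hx0 hx1 (by omega)
  have hxi : x ^ i = x * y := by rw [hy, ← pow_succ', Nat.sub_add_cancel (by omega)]
  rw [S_rec (by omega) (show 1 ≤ i by omega)]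
  set D := M / i
  have hcd : ∀ d, (c q d : ℚ) / (q : ℚ) ^ (d * i) = if d = 0 then 1 else (1 + x) * y ^ d := by
    intro d
    rcases d with _ | d
    · simp [c_zero]
    · rw [if_neg (by omega), c_succ, Nat.cast_mul, Nat.cast_add, Nat.cast_pow, Nat.cast_one, hy,
        ← pow_mul, hx, one_div, inv_pow]
      have : (d + 1) * i = (i - 1) * (d + 1) + (d + 1) := by
        obtain ⟨j, rfl⟩ : ∃ j, i = j + 1 := ⟨i - 1, by omega⟩
        simp; ring
      rw [this, pow_add, pow_succ (q : ℚ) d]
      field_simp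
  refine (Finset.sum_le_sum fun d _ => mul_le_mul_of_nonneg_left (hB _) (by positivity)).trans ?_
  rw [← Finset.sum_mul]
  refine mul_le_mul_of_nonneg_right ?_ hB0
  rw [le_div_iff₀ (by linarith), Finset.sum_congr rfl fun d _ => hcd d, Finset.sum_range_succ']
  simp only [Nat.succ_ne_zero, if_false, if_true]
  have hg : (∑ k ∈ Finset.range D, y ^ k) * (1 - y) = 1 - y ^ D := geom_sum_mul_neg y D
  have : (∑ k ∈ Finset.range D, (1 + x) * y ^ (k + 1)) = (1 + x) * y * ∑ k ∈ Finset.range D, y ^ k := by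
    rw [Finset.mul_sum]; exact Finset.sum_congr rfl fun k _ => by ring
  rw [this, add_mul, mul_assoc _ _ (1 - y), hg, hxi, one_mul]
  nlinarith [mul_nonneg (mul_nonneg (show (0 : ℚ) ≤ 1 + x by linarith) hy0) (pow_nonneg hy0 D)]

/-- The tail of the product: `c y < 1` with `c = (q+1)/(q-1)`, `y = q^{1-i}`. -/
theorem S_tail (hq : 2 ≤ q) : ∀ (N i M : ℕ), 2 ≤ i → M + 1 - i ≤ N →
    ((q : ℚ) + 1) / (q - 1) * (1 / q : ℚ) ^ (i - 1) < 1 →
    S q i M ≤ 1 / (1 - ((q : ℚ) + 1) / (q - 1) * (1 / q : ℚ) ^ (i - 1)) := by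
  intro N
  have hq' : (2 : ℚ) ≤ q := by exact_mod_cast hq
  set C : ℚ := ((q : ℚ) + 1) / (q - 1) with hC
  have hC0 : 0 ≤ C := div_nonneg (by linarith) (by linarith)
  have hC1 : C * ((q : ℚ) - 1) = q + 1 := div_mul_cancel₀ _ (by linarith)
  have hbase : ∀ i M : ℕ, 2 ≤ i → M < i → C * (1 / q : ℚ) ^ (i - 1) < 1 →
      S q i M ≤ 1 / (1 - C * (1 / q : ℚ) ^ (i - 1)) := by
    intro i M hi hM hlt
    have : S q i M = 1 := by
      unfold S
      rw [Finset.sum_eq_single 0]
      · simp [W_zero]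
      · intro j hj hj0
        rw [Finset.mem_range] at hj
        simp [W_eq_zero (q := q) hj0 (show j < i by omega)]
      · simp
    rw [this, le_div_iff₀ (by linarith)]
    have : 0 ≤ C * (1 / q : ℚ) ^ (i - 1) := by positivity
    linarith
  induction N with
  | zero => intro i M hi hN; exact hbase i M hi (by omega)
  | succ N ih =>
    intro i M hi hN hlt
    by_cases hlt' : M < i
    · exact hbase i M hi hlt' hlt
    push Not at hlt'
    set x : ℚ := 1 / q with hx
    set y : ℚ := x ^ (i - 1) with hy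
    have hx0 : 0 ≤ x := by rw [hx]; positivity
    have hx1 : x < 1 := by rw [hx, div_lt_one (by positivity)]; linarith
    have hy0 : 0 ≤ y := pow_nonneg hx0 _
    have hy1 : y < 1 := pow_lt_one₀ hx0 hx1 (by omega)
    have hxi : x ^ i = x * y := by rw [hy, ← pow_succ', Nat.sub_add_cancel (by omega)]
    have hxy : x * y ≤ y := mul_le_of_le_one_left hy0 hx1.le
    have hlt2 : C * (x * y) < 1 := lt_of_le_of_lt (mul_le_mul_of_nonneg_left hxy hC0) hlt
    rw [S_rec (by omega) (show 1 ≤ i by omega)]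
    have hB : ∀ d ∈ Finset.range (M / i + 1), S q (i + 1) (M - d * i) ≤ 1 / (1 - C * (x * y)) := by
      intro d _
      have h1 := ih (i + 1) (M - d * i) (by omega) (by omega) (by rw [Nat.add_sub_cancel, hxi]; exact hlt2)
      rwa [Nat.add_sub_cancel, hxi] at h1
    have hcd : ∀ d, (c q d : ℚ) / (q : ℚ) ^ (d * i) = if d = 0 then 1 else (1 + x) * y ^ d := by
      intro d
      rcases d with _ | d
      · simp [c_zero]
      · rw [if_neg (by omega), c_succ, Nat.cast_mul, Nat.cast_add, Nat.cast_pow, Nat.cast_one, hy,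
          ← pow_mul, hx, one_div, inv_pow]
        have : (d + 1) * i = (i - 1) * (d + 1) + (d + 1) := by
          obtain ⟨j, rfl⟩ : ∃ j, i = j + 1 := ⟨i - 1, by omega⟩
          simp; ring
        rw [this, pow_add, pow_succ (q : ℚ) d]
        field_simp
    refine (Finset.sum_le_sum fun d hd => mul_le_mul_of_nonneg_left (hB d hd) (by positivity)).trans ?_
    rw [← Finset.sum_mul, Finset.sum_congr rfl fun d _ => hcd d, Finset.sum_range_succ']
    simp only [Nat.succ_ne_zero, if_false, if_true]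
    have hgeom : (∑ k ∈ Finset.range (M / i), (1 + x) * y ^ (k + 1)) * (1 - y) ≤ (1 + x) * y := by
      have hg : (∑ k ∈ Finset.range (M / i), y ^ k) * (1 - y) = 1 - y ^ (M / i) := geom_sum_mul_neg y _
      have : (∑ k ∈ Finset.range (M / i), (1 + x) * y ^ (k + 1)) = (1 + x) * y * ∑ k ∈ Finset.range (M / i), y ^ k := by
        rw [Finset.mul_sum]; exact Finset.sum_congr rfl fun k _ => by ring
      rw [this, mul_assoc, hg]
      exact mul_le_of_le_one_right (by positivity) (by linarith [pow_nonneg hy0 (M / i)])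
    rw [mul_one_div, div_le_div_iff₀ (by linarith) (by linarith), one_mul]
    have hsum : ((∑ k ∈ Finset.range (M / i), (1 + x) * y ^ (k + 1)) + 1) * (1 - y) ≤ 1 + x * y := by
      linarith
    have hkey : (1 + x * y) * (1 - C * y) ≤ (1 - C * (x * y)) * (1 - y) := by
      have hxq : x * q = 1 := by rw [hx]; field_simp
      have hCx : C * (1 - x) = 1 + x := by linear_combination x * hC1 - C * hxq + hxq
      have : 0 ≤ C * (x * y) * y := by positivity
      linear_combination (2 : ℚ) * this + (0 : ℚ) * hy1 - y * hCx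
    have h1C : 0 ≤ 1 - C * y := by linarith
    have h1y : 0 < 1 - y := by linarith
    nlinarith [mul_le_mul_of_nonneg_right hsum h1C]

end CfsgLib.ClassCountU
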