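import Cfsg.Agent.ClassCountU.Arith

set_option autoImplicit false

/-!
`100 · classBound q n ≤ 826 q^{n-1}`.
-/

namespace CfsgLib.ClassCountU

variable {q : ℕ}

/-- The bound for the classes of `SU(n,q)`. -/
def classBound (q n : ℕ) : ℕ := ∑ t ∈ (Nat.gcd n (q + 1)).divisors, t.totient * (t * detBound q (n / t))

theorem c_one : c q 1 = q + 1 := by simp [c]

theorem c_two : c q 2 = (q + 1) * q := by simp [c]

theorem c_mul_c_one (d : ℕ) : c q d * q ≤ c q (d + 1) := by
  rcases d with _ | d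
  · simp [c]
  · rw [c_succ, c_succ, pow_succ, mul_assoc]

theorem W_shift {i : ℕ} (hi : 1 ≤ i) (m : ℕ) : q * W q i m ≤ W q i (m + i) := by
  rw [W_rec hi, W_rec hi, Finset.mul_sum, Nat.add_div_right _ (show 0 < i by omega),
    Finset.sum_range_succ' (fun d => c q d * W q (i + 1) (m + i - d * i)) (m / i + 1)]
  refine le_trans (Finset.sum_le_sum fun d _ => ?_) (Nat.le_add_right _ _)
  rw [show m + i - (d + 1) * i = m - d * i by rw [add_mul, one_mul]; omega, ← mul_assoc, mul_comm q]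
  exact Nat.mul_le_mul_right _ (c_mul_c_one d)

theorem W_shift_succ {i : ℕ} (hi : 1 ≤ i) (m : ℕ) : q * W q i m ≤ W q i (m + (i + 1)) := by
  rw [W_rec hi, W_rec hi, Finset.mul_sum]
  refine le_trans (Finset.sum_le_sum fun d hd => ?_)
    (Finset.sum_le_sum_of_subset (Finset.range_mono (Nat.add_le_add_right (Nat.div_le_div_right (Nat.le_add_right _ _)) 1)))
  rw [Finset.mem_range] at hd
  have h2 : d * i ≤ m := le_trans (Nat.mul_le_mul_right i (show d ≤ m / i by omega)) (Nat.div_mul_le_self m i)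
  rw [mul_left_comm, Nat.sub_add_comm h2]
  exact Nat.mul_le_mul_left _ (W_shift (by omega) _)

/-- The terms of `S q 2`. -/
def a (q j : ℕ) : ℚ := (W q 2 j : ℚ) / (q : ℚ) ^ j

theorem a_nonneg (j : ℕ) : 0 ≤ a q j := by unfold a; positivity

theorem S_eq_sum (M : ℕ) : S q 2 M = ∑ j ∈ Finset.range (M + 1), a q j := rfl

theorem detBound_eq (hq : 1 ≤ q) {n : ℕ} (hn : 1 ≤ n) :
    (detBound q n : ℚ) = (q : ℚ) ^ (n - 1) * (S q 2 n + ((q : ℚ) - 1) * a q n) := by
  have hq0 : (q : ℚ) ≠ 0 := by exact_mod_cast (by omega : q ≠ 0)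
  obtain ⟨m, rfl⟩ := Nat.exists_eq_add_of_le' hn
  rw [detBound, S_eq_sum, Finset.sum_range_succ (fun j => a q j), Nat.add_sub_cancel,
    ← Finset.sum_range_reflect (fun j => a q j)]
  push_cast
  rw [mul_add, mul_add, Finset.mul_sum]
  have e : ∀ k ∈ Finset.range (m + 1), (q : ℚ) ^ k * (W q 2 (m - k) : ℚ) =
      (q : ℚ) ^ m * a q (m + 1 - 1 - k) := by
    intro k hk
    rw [Finset.mem_range] at hk
    rw [a, show m + 1 - 1 - k = m - k by omega]
    have hn : (q : ℚ) ^ m = q ^ (m - k) * q ^ k := by rw [← pow_add]; congr 1; omega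
    rw [hn]
    field_simp
  simp only [Nat.add_sub_cancel] at e ⊢
  rw [Finset.sum_congr rfl e, a, pow_succ]
  field_simp
  ring

theorem a_succ_le_S (n : ℕ) : a q (n + 1) + 1 ≤ S q 2 (n + 1) := by
  rw [S_eq_sum, Finset.sum_range_succ, Finset.sum_range_succ' _ n]
  have h0 : a q 0 = 1 := by simp [a, W_zero]
  rw [h0]
  have : 0 ≤ ∑ k ∈ Finset.range n, a q (k + 1) := Finset.sum_nonneg fun _ _ => a_nonneg _
  linarith

theorem S_bound_two (M : ℕ) : S 2 2 M ≤ 6 := by
  have h4 : ∀ M, S 2 4 M ≤ 8 / 5 := fun M =>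
    (S_tail le_rfl (M + 1) 4 M (by norm_num) (by omega) (by norm_num)).trans (by norm_num)
  have h3 : ∀ M, S 2 3 M ≤ 12 / 5 := fun M => (S_step le_rfl (by norm_num) h4 M).trans (by norm_num)
  exact (S_step le_rfl le_rfl h3 M).trans (by norm_num)

theorem detBound_le_two (hq : q = 2) {n : ℕ} (hn : 1 ≤ n) : detBound q n ≤ 6 * q ^ (n - 1) := by
  subst hq
  have h := detBound_eq (q := 2) (by norm_num) hn
  have hS := S_bound_two (n + 4)
  have key : a 2 n ≤ a 2 (n + 2) + a 2 (n + 3) + a 2 (n + 4) := by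
    have h1' : (2 : ℚ) * (W 2 2 n : ℚ) ≤ W 2 2 (n + 2) := by
      exact_mod_cast W_shift (q := 2) (i := 2) (by norm_num) n
    have h2' : (2 : ℚ) * (W 2 2 (n + 2) : ℚ) ≤ W 2 2 (n + 4) := by
      exact_mod_cast W_shift (q := 2) (i := 2) (by norm_num) (n + 2)
    have h3' : (2 : ℚ) * (W 2 2 n : ℚ) ≤ W 2 2 (n + 3) := by
      exact_mod_cast W_shift_succ (q := 2) (i := 2) (by norm_num) n
    have e : ∀ k : ℕ, a 2 (n + k) = (W 2 2 (n + k) : ℚ) / 2 ^ k * ((2 : ℚ) ^ n)⁻¹ := fun k => by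
      unfold a
      push_cast
      rw [pow_add]
      field_simp
    rw [e 2, e 3, e 4, ← add_mul, ← add_mul, a, div_eq_mul_inv]
    push_cast
    refine mul_le_mul_of_nonneg_right ?_ (by positivity)
    norm_num
    linarith
  rw [S_eq_sum, show n + 4 + 1 = n + 1 + 4 by omega, Finset.sum_range_add] at hS
  simp only [Finset.sum_range_succ, Finset.sum_range_zero, zero_add] at hS
  rw [show n + 1 + 1 = n + 2 by omega, show n + 1 + 2 = n + 3 by omega, show n + 1 + 3 = n + 4 by omega] at hS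
  have hle : S 2 2 n + ((2 : ℚ) - 1) * a 2 n ≤ 6 := by
    have := a_nonneg (q := 2) (n + 1)
    rw [S_eq_sum]
    simp only [← Finset.sum_range_succ] at hS ⊢
    linarith
  have hb : (detBound 2 n : ℚ) ≤ (2 : ℚ) ^ (n - 1) * 6 := by
    rw [h]; push_cast; exact mul_le_mul_of_nonneg_left hle (by positivity)
  have : detBound 2 n ≤ 2 ^ (n - 1) * 6 := by exact_mod_cast hb
  linarith

theorem detBound_le_three (hq : 3 ≤ q) {n : ℕ} (hn : 1 ≤ n) : 2 * detBound q n ≤ 9 * q ^ (n - 1) := by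
  have hq' : (3 : ℚ) ≤ q := by exact_mod_cast hq
  have h := detBound_eq (q := q) (by omega) hn
  obtain ⟨m, rfl⟩ := Nat.exists_eq_add_of_le' hn
  have ha := a_succ_le_S (q := q) m
  set C : ℚ := ((q : ℚ) + 1) / (q - 1) with hC
  have hC2 : C ≤ 2 := by rw [hC, div_le_iff₀ (by linarith)]; linarith
  have hC0 : 0 ≤ C := div_nonneg (by linarith) (by linarith)
  have hy : C * (1 / q : ℚ) ^ (3 - 1) < 1 := by
    have : (1 / q : ℚ) ^ 2 ≤ (1 / 3) ^ 2 := pow_le_pow_left₀ (by positivity) (one_div_le_one_div_of_le (by norm_num) hq') 2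
    calc C * (1 / q : ℚ) ^ (3 - 1) ≤ 2 * (1 / 3) ^ 2 := mul_le_mul hC2 this (by positivity) (by norm_num)
      _ < 1 := by norm_num
  have h3 : ∀ M, S q 3 M ≤ 1 / (1 - C * (1 / q : ℚ) ^ (3 - 1)) := fun M =>
    S_tail (by omega) (M + 1) 3 M (by norm_num) (by omega) hy
  have hS := S_step (by omega : 2 ≤ q) le_rfl h3 (m + 1)
  have hqS : (q : ℚ) * (S q 2 (m + 1) - 1) ≤ 7 / 2 := by
    have hpos : (0 : ℚ) < (q : ℚ) ^ 3 - q ^ 2 - q - 1 := by nlinarith
    have e : (1 + (1 / q : ℚ) ^ 2) / (1 - (1 / q : ℚ) ^ (2 - 1)) * (1 / (1 - C * (1 / q : ℚ) ^ (3 - 1))) =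
        ((q : ℚ) ^ 3 + q) / ((q : ℚ) ^ 3 - q ^ 2 - q - 1) := by
      have h1 : (q : ℚ) - 1 ≠ 0 := by linarith
      have h2 : (q : ℚ) ≠ 0 := by linarith
      have e1 : 1 - (1 / q : ℚ) ^ (2 - 1) = ((q : ℚ) - 1) / q := by
        show 1 - (1 / q : ℚ) ^ 1 = _
        field_simp
      have e2 : 1 - C * (1 / q : ℚ) ^ (3 - 1) = ((q : ℚ) ^ 3 - q ^ 2 - q - 1) / (q ^ 2 * (q - 1)) := by
        show 1 - C * (1 / q : ℚ) ^ 2 = _
        rw [hC]
        field_simp
        ring
      have e3 : (q : ℚ) ^ 3 - q ^ 2 - q - 1 ≠ 0 := hpos.ne'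
      rw [e1, e2]
      field_simp
    rw [e, le_div_iff₀ hpos] at hS
    have : 0 ≤ (q : ℚ) * q * (q - 3) := by positivity
    nlinarith [mul_le_mul_of_nonneg_left hS (show (0 : ℚ) ≤ q by linarith)]
  have hle : S q 2 (m + 1) + ((q : ℚ) - 1) * a q (m + 1) ≤ 9 / 2 := by
    nlinarith [mul_le_mul_of_nonneg_left ha (show (0 : ℚ) ≤ (q : ℚ) - 1 by linarith)]
  have hb : 2 * (detBound q (m + 1) : ℚ) ≤ 9 * (q : ℚ) ^ (m + 1 - 1) := by
    rw [h]; nlinarith [mul_le_mul_of_nonneg_left hle (show (0 : ℚ) ≤ (q : ℚ) ^ (m + 1 - 1) by positivity)]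
  exact_mod_cast hb

theorem classBound_le (hq : 2 ≤ q) {n : ℕ} (hn : 2 ≤ n) : 100 * classBound q n ≤ 826 * q ^ (n - 1) := by
  set d := Nat.gcd n (q + 1) with hd
  have hdn : d ∣ n := Nat.gcd_dvd_left _ _
  have hdq : d ∣ q + 1 := Nat.gcd_dvd_right _ _
  have hd0 : 0 < d := Nat.gcd_pos_of_pos_left _ (by omega)
  have hdle : d ≤ q + 1 := Nat.le_of_dvd (by omega) hdq
  have h1 : 1 ∈ d.divisors := Nat.one_mem_divisors.2 hd0.ne'
  have hsplit : classBound q n = detBound q n + ∑ t ∈ d.divisors.erase 1, t.totient * (t * detBound q (n / t)) := by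
    rw [classBound, ← hd, ← Finset.add_sum_erase _ _ h1]
    simp
  have hsub : d.divisors.erase 1 ⊆ n.divisors.erase 1 :=
    Finset.erase_subset_erase _ (Nat.divisors_subset_of_dvd (by omega) hdn)
  rcases Nat.lt_or_ge n 5 with hn5 | hn5
  · have hb : ∑ t ∈ d.divisors.erase 1, t.totient * (t * detBound q (n / t)) ≤
        ∑ t ∈ n.divisors.erase 1, t.totient * (t * detBound q (n / t)) :=
      Finset.sum_le_sum_of_subset hsub
    interval_cases n
    · rw [show (Nat.divisors 2).erase 1 = {2} by decide, Finset.sum_singleton,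
        show Nat.totient 2 = 1 by decide, show 2 / 2 = 1 by norm_num, detBound_one] at hb
      rw [hsplit, detBound_two]
      simp only [Nat.reduceSub, pow_one]
      omega
    · rw [show (Nat.divisors 3).erase 1 = {3} by decide, Finset.sum_singleton,
        show Nat.totient 3 = 2 by decide, show 3 / 3 = 1 by norm_num, detBound_one] at hb
      rw [hsplit, detBound_three]
      have : 2 * q ≤ q ^ 2 := by rw [sq]; exact Nat.mul_le_mul_right q hq
      simp only [Nat.reduceSub]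
      omega
    · rw [show (Nat.divisors 4).erase 1 = {2, 4} by decide, Finset.sum_insert (by decide), Finset.sum_singleton,
        show Nat.totient 2 = 1 by decide, show Nat.totient 4 = 2 by decide, show 4 / 4 = 1 by norm_num,
        show 4 / 2 = 2 by norm_num, detBound_one, detBound_two] at hb
      have := detBound_four (q := q)
      have h2 : 2 * q ≤ q ^ 2 := by rw [sq]; exact Nat.mul_le_mul_right q hq
      have h3 : 2 * q ^ 2 ≤ q ^ 3 := by rw [pow_succ q 2, mul_comm (q ^ 2)]; exact Nat.mul_le_mul_right _ hq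
      rw [hsplit]
      simp only [Nat.reduceSub]
      omega
  rcases eq_or_lt_of_le hq with hq2 | hq3
  · -- the field with four elements
    subst hq2
    have hA := detBound_le_two (q := 2) rfl (show 1 ≤ n by omega)
    have hd3 : d = 1 ∨ d = 3 := (Nat.dvd_prime Nat.prime_three).1 hdq
    rcases hd3 with hd3 | hd3
    · rw [hsplit, hd3]
      simp only [Nat.divisors_one, Finset.erase_singleton, Finset.sum_empty, add_zero]
      omega
    · rw [hsplit, hd3, show (Nat.divisors 3).erase 1 = {3} by decide, Finset.sum_singleton,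
        show Nat.totient 3 = 2 by decide]
      obtain ⟨m, rfl⟩ : 3 ∣ n := hd3 ▸ hdn
      rw [Nat.mul_div_cancel_left _ (by norm_num)]
      have hB := detBound_le_two (q := 2) rfl (show 1 ≤ m by omega)
      have hp : 16 * 2 ^ (m - 1) ≤ 2 ^ (3 * m - 1) := by
        rw [show 3 * m - 1 = (m - 1) + (2 * m) by omega, pow_add, mul_comm 16]
        exact Nat.mul_le_mul_left _ ((by norm_num : (16 : ℕ) = 2 ^ 4).le.trans
          (Nat.pow_le_pow_right (by norm_num) (by omega)))
      omega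
  · have hA := detBound_le_three (q := q) hq3 (show 1 ≤ n by omega)
    obtain ⟨e, he⟩ : ∃ e, n - 1 = e + 3 := ⟨n - 4, by omega⟩
    have hterm : ∀ t ∈ d.divisors.erase 1, 2 * (t.totient * (t * detBound q (n / t))) ≤
        t.totient * (d * (9 * q ^ e)) := by
      intro t ht
      obtain ⟨ht1, htd⟩ := Finset.mem_erase.1 ht
      have htd' := (Nat.mem_divisors.1 htd).1
      have htpos : 0 < t := Nat.pos_of_dvd_of_pos htd' hd0
      have htn : t ∣ n := htd'.trans hdn
      have hdivle : n / t ≤ n / 2 := Nat.div_le_div_left (by omega) (by norm_num)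
      have hdivpos : 1 ≤ n / t := Nat.div_pos (Nat.le_of_dvd (by omega) htn) htpos
      have hB := detBound_le_three (q := q) hq3 hdivpos
      have hpow : q ^ (n / t - 1) ≤ q ^ e := Nat.pow_le_pow_right (by omega) (by omega)
      have h' : 2 * detBound q (n / t) ≤ 9 * q ^ e := hB.trans (Nat.mul_le_mul_left _ hpow)
      calc 2 * (t.totient * (t * detBound q (n / t))) = t.totient * (t * (2 * detBound q (n / t))) := by ring
        _ ≤ _ := Nat.mul_le_mul_left _ (Nat.mul_le_mul (Nat.le_of_dvd hd0 htd') h')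
    have hsum := Finset.sum_le_sum hterm
    rw [← Finset.mul_sum, ← Finset.sum_mul] at hsum
    have htot : ∑ t ∈ d.divisors.erase 1, t.totient ≤ d :=
      le_trans (Finset.sum_le_sum_of_subset (Finset.erase_subset _ _)) (Nat.sum_totient d).le
    have hdd : 27 * (d * d) ≤ 16 * q ^ 3 := by
      have h1 : d * d ≤ (q + 1) * (q + 1) := Nat.mul_le_mul hdle hdle
      have h2 : 27 * ((q + 1) * (q + 1)) ≤ 16 * q ^ 3 := by nlinarith [Nat.mul_le_mul hq3 hq3]
      omega
    have hfin : 27 * (2 * ∑ t ∈ d.divisors.erase 1, t.totient * (t * detBound q (n / t))) ≤ 144 * q ^ (n - 1) := by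
      refine (Nat.mul_le_mul_left 27 (hsum.trans (Nat.mul_le_mul_right _ htot))).trans ?_
      calc 27 * (d * (d * (9 * q ^ e))) = 27 * (d * d) * (9 * q ^ e) := by ring
        _ ≤ 16 * q ^ 3 * (9 * q ^ e) := Nat.mul_le_mul_right _ hdd
        _ = 144 * q ^ (n - 1) := by rw [he, pow_add]; ring
    rw [hsplit]
    omega

end CfsgLib.ClassCountU
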